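import Cfsg.Agent.OddOrder.PF4.Table
import Cfsg.Agent.OddOrder.PF3.Props
import Cfsg.Agent.OddOrder.PF7.InvDade
import Cfsg.Agent.CharInduce.Induce
import Cfsg.Agent.S0181
import Cfsg.Agent.S1500
import Cfsg.Agent.S1501

/-!
# Peterfalvi (4.6) - (4.8): the Dade map on the characters of `L = K W₁`

`L ≤ G`, `(W₁, W₂)` is a cyclic TI pair in `G` and `(A, L, H)` satisfies the Dade hypothesis, with
the elements of `W₁ ⊔ W₂` outside `W₁ ∪ W₂` in `A`.
-/

set_option autoImplicit false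

namespace Cfsg.Agent.OddOrder.PF4

open scoped ComplexConjugate
open Cfsg.Agent H43 Finset

universe u

section DadeLinear

variable {G : Type u} [Group G] {A : Set G} {L : Subgroup G} {H : G → Subgroup G}

theorem dade_add (α β : L → ℂ) : Cfsg.dadeIsometry A L H (α + β) =
    Cfsg.dadeIsometry A L H α + Cfsg.dadeIsometry A L H β := by
  funext g
  simp only [Cfsg.dadeIsometry, Pi.add_apply]
  split_ifs <;> simp

theorem dade_smul (c : ℂ) (α : L → ℂ) :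
    Cfsg.dadeIsometry A L H (c • α) = c • Cfsg.dadeIsometry A L H α := by
  funext g
  simp only [Cfsg.dadeIsometry, Pi.smul_apply]
  split_ifs <;> simp

theorem dade_zero : Cfsg.dadeIsometry A L H 0 = 0 := by
  funext g
  simp only [Cfsg.dadeIsometry, Pi.zero_apply]
  split_ifs <;> simp

theorem dade_sub (α β : L → ℂ) : Cfsg.dadeIsometry A L H (α - β) =
    Cfsg.dadeIsometry A L H α - Cfsg.dadeIsometry A L H β := by
  funext g
  simp only [Cfsg.dadeIsometry, Pi.sub_apply]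
  split_ifs <;> simp

theorem dade_zsmul (n : ℤ) (α : L → ℂ) :
    Cfsg.dadeIsometry A L H (n • α) = n • Cfsg.dadeIsometry A L H α := by
  funext g
  simp only [Cfsg.dadeIsometry, Pi.smul_apply]
  split_ifs <;> simp

theorem dade_sum {ι : Type*} (s : Finset ι) (f : ι → L → ℂ) :
    Cfsg.dadeIsometry A L H (∑ i ∈ s, f i) = ∑ i ∈ s, Cfsg.dadeIsometry A L H (f i) := by
  classical
  induction s using Finset.induction_on with
  | empty => simp [dade_zero]
  | @insert a s ha ih => rw [sum_insert ha, sum_insert ha, dade_add, ih]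

theorem dade_one (hD : Cfsg.DadeHypothesis A L H) (α : L → ℂ) :
    Cfsg.dadeIsometry A L H α 1 = 0 := by
  refine H43.dade_apply_zero ?_
  rintro ⟨a, ha, x, u, hu, hx⟩
  rw [mul_one, mul_inv_cancel] at hx
  have hau : (a : G) = u⁻¹ := eq_inv_of_mul_eq_one_left hx.symm
  have hmem : (a : G) ∈ H (a : G) ⊓ (L ⊓ Subgroup.centralizer ({(a : G)} : Set G)) :=
    ⟨by rw [hau]; exact (H (a : G)).inv_mem hu |> (fun h => by rwa [← hau] at h ⊢), a.2,
      Subgroup.mem_centralizer_singleton_iff.2 rfl⟩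
  rw [hD.inf_eq_bot _ ha, Subgroup.mem_bot] at hmem
  exact hD.one_not_mem (hmem ▸ ha)

end DadeLinear

variable {G : Type u} [Group G] {L : Subgroup G} {K W₁ W₂ N : Subgroup L} {A : Set G}
  {H : G → Subgroup G}

/-- The isomorphism of `W` with its image in `G`. -/
noncomputable def supEquiv (W₁ W₂ : Subgroup L) :
    ↥(W₁ ⊔ W₂) ≃* ↥(W₁.map L.subtype ⊔ W₂.map L.subtype) :=
  ((W₁ ⊔ W₂).equivMapOfInjective L.subtype L.subtype_injective).trans
    (MulEquiv.subgroupCongr (Subgroup.map_sup _ _ _))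

@[simp] theorem supEquiv_coe (w : ↥(W₁ ⊔ W₂)) : ((supEquiv W₁ W₂ w : _) : G) = ((w : L) : G) :=
  rfl

/-- Transport of linear characters. -/
noncomputable def linEquiv (W₁ W₂ : Subgroup L) :
    (↥(W₁ ⊔ W₂) →* ℂˣ) ≃ (↥(W₁.map L.subtype ⊔ W₂.map L.subtype) →* ℂˣ) where
  toFun ω := ω.comp (supEquiv W₁ W₂).symm.toMonoidHom
  invFun ω := ω.comp (supEquiv W₁ W₂).toMonoidHom
  left_inv ω := by ext w; simp
  right_inv ω := by ext w; simp

/-- The members of the family of `G`, indexed by the linear characters of `W ≤ L`. -/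
noncomputable def eta (χ : (↥(W₁.map L.subtype ⊔ W₂.map L.subtype) →* ℂˣ) → (G → ℂ))
    (ω : ↥(W₁ ⊔ W₂) →* ℂˣ) : G → ℂ :=
  χ (linEquiv W₁ W₂ ω)

/-- The hypothesis (4.6) of Peterfalvi without the data `A ⊆ K`. -/
structure DadeHyp (K W₁ W₂ : Subgroup L) (A : Set G) (H : G → Subgroup G) : Prop where
  prime : Hyp K W₁ W₂
  selfNorm : Cfsg.IsSelfNormalizingCyclic (W₁.map L.subtype) (W₂.map L.subtype)
  dade : Cfsg.DadeHypothesis A L H
  V_subset : ∀ w : L, w ∈ W₁ ⊔ W₂ → w ∉ W₁ → w ∉ W₂ → (w : G) ∈ A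

/-- The part of (4.6) about a normal subgroup `N` with `W₂ ≤ N ≤ K`: the elements of `K`
commuting with a nontrivial element of `N` are in `A`. -/
structure SuppHyp (K W₂ N : Subgroup L) (A : Set G) : Prop where
  le : N ≤ K
  normal : N.Normal
  W₂_le : W₂ ≤ N
  mem : ∀ k ∈ K, k ≠ 1 → ∀ n ∈ N, n ≠ 1 → k * n = n * k → (k : G) ∈ A

namespace DadeHyp

variable (d : DadeHyp K W₁ W₂ A H)

include d

theorem odd : Odd (Nat.card ↥(W₁.map L.subtype ⊔ W₂.map L.subtype)) := by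
  rw [← Nat.card_congr (supEquiv W₁ W₂).toEquiv]
  exact d.prime.odd

theorem card_facts [Finite G] : Odd (Nat.card W₁) ∧ Odd (Nat.card W₂) ∧ 3 ≤ Nat.card W₁ ∧
    3 ≤ Nat.card W₂ := by
  cases nonempty_fintype L
  have h := PF3.card_facts d.prime.pair d.prime.odd
  exact ⟨h.1, h.2.1, h.2.2.1, h.2.2.2.1⟩

/-- The attached subgroup is trivial outside `W₁ ∪ W₂`. -/
theorem H_eq_bot (w : ↥(W₁ ⊔ W₂)) (h1 : (w : L) ∉ W₁) (h2 : (w : L) ∉ W₂) :
    H ((w : L) : G) = ⊥ := by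
  have hA := d.V_subset _ w.2 h1 h2
  have hN := d.selfNorm.2.2.2.2.2 {((w : L) : G)} (by
    rintro _ rfl
    refine ⟨(supEquiv W₁ W₂ w).2, ?_⟩
    rintro (h | h)
    · exact h1 ((Subgroup.mem_map_iff_mem L.subtype_injective).1 h)
    · exact h2 ((Subgroup.mem_map_iff_mem L.subtype_injective).1 h)) (Set.singleton_nonempty _)
  rw [eq_bot_iff]
  intro c hc
  have hcC := d.dade.le_centralizer _ hA hc
  have hcN : c ∈ Subgroup.normalizer ({((w : L) : G)} : Set G) := by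
    rw [Subgroup.mem_set_normalizer_iff]
    intro n
    simp only [Set.mem_singleton_iff]
    have e : c * ((w : L) : G) * c⁻¹ = ((w : L) : G) := by
      rw [Subgroup.mem_centralizer_singleton_iff.1 hcC, mul_inv_cancel_right]
    exact ⟨fun hn => hn ▸ e, fun hn => mul_left_cancel (mul_right_cancel (hn.trans e.symm))⟩
  rw [hN] at hcN
  have hcL : c ∈ L := (sup_le (Subgroup.map_subtype_le W₁) (Subgroup.map_subtype_le W₂)) hcN
  rw [← d.dade.inf_eq_bot _ hA]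
  exact ⟨hc, hcL, hcC⟩

variable [Fintype G] {χ : (↥(W₁.map L.subtype ⊔ W₂.map L.subtype) →* ℂˣ) → (G → ℂ)}
  (hχ : Cfsg.IsCyclicTIFamily (W₁.map L.subtype) (W₂.map L.subtype) χ)

include hχ

theorem eta_eq_on (ω : ↥(W₁ ⊔ W₂) →* ℂˣ) (w : ↥(W₁ ⊔ W₂)) (h1 : (w : L) ∉ W₁)
    (h2 : (w : L) ∉ W₂) : eta χ ω ((w : L) : G) = (ω w : ℂ) := by
  have := hχ.eq_on (linEquiv W₁ W₂ ω) (supEquiv W₁ W₂ w)
    (fun h => h1 ((Subgroup.mem_map_iff_mem L.subtype_injective).1 h))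
    (fun h => h2 ((Subgroup.mem_map_iff_mem L.subtype_injective).1 h))
  simpa [eta, linEquiv] using this

omit d in
theorem eta_orth [DecidableEq (↥(W₁ ⊔ W₂) →* ℂˣ)] (ω ω' : ↥(W₁ ⊔ W₂) →* ℂˣ) :
    Cfsg.classInner (eta χ ω) (eta χ ω') = if ω = ω' then 1 else 0 := by
  classical
  rw [eta, eta, hχ.orthonormal]
  by_cases h : ω = ω'
  · rw [if_pos h, if_pos (congrArg _ h)]
  · rw [if_neg h, if_neg fun e => h ((linEquiv W₁ W₂).injective e)]

omit d in
theorem eta_signed (ω : ↥(W₁ ⊔ W₂) →* ℂˣ) : Signed (eta χ ω) := hχ.irr_or_neg _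

omit d in
theorem eta_injective : Function.Injective (eta (W₁ := W₁) (W₂ := W₂) χ) :=
  (PF3.family_injective hχ).comp (linEquiv W₁ W₂).injective

theorem eta_one : eta (W₁ := W₁) (W₂ := W₂) χ 1 = fun _ => 1 := by
  rw [eta, show linEquiv W₁ W₂ 1 = 1 from rfl, hχ.map_one]

theorem eta_inv (ω : ↥(W₁ ⊔ W₂) →* ℂˣ) : eta χ ω⁻¹ = Cfsg.conjFun (eta χ ω) := by
  rw [eta, eta, ← PF3.family_inv d.selfNorm d.odd hχ]
  rfl

theorem eta_aut (σ : ℂ ≃+* ℂ) (ω : ↥(W₁ ⊔ W₂) →* ℂˣ) :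
    eta χ ((Units.map (σ : ℂ →* ℂ)).comp ω) = fun g => σ (eta χ ω g) := by
  rw [eta, eta, ← PF3.family_aut d.selfNorm d.odd hχ σ]
  rfl

variable [Fintype L]

/-- Functions induced from `W` supported outside `W₁ ∪ W₂` go to combinations of the family. -/
theorem dade_ind [Fintype ↥(W₁ ⊔ W₂)] {f : ↥(W₁ ⊔ W₂) → ℂ}
    (hf : ∀ w : ↥(W₁ ⊔ W₂), (w : L) ∈ W₁ ∨ (w : L) ∈ W₂ → f w = 0) :
    Cfsg.dadeIsometry A L H (Cfsg.indFun (W₁ ⊔ W₂) f) =
      ∑ ω, Cfsg.classInner f (fun w => (ω w : ℂ)) • eta χ ω := by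
  classical
  haveI : Fintype ↥(W₁.map L.subtype ⊔ W₂.map L.subtype) := Fintype.ofFinite _
  have hαA : ∀ x : L, (x : G) ∉ A → Cfsg.indFun (W₁ ⊔ W₂) f x = 0 := by
    intro x hx
    rw [CharInduce.indFun_apply, sum_eq_zero, mul_zero]
    intro y _
    by_cases hy : y⁻¹ * x * y ∈ W₁ ⊔ W₂
    · rw [CharInduce.extendByZero_of_mem _ hy]
      refine hf _ ?_
      by_contra hne
      push Not at hne
      have := d.dade.conj_mem y y.2 _ (d.V_subset _ hy hne.1 hne.2)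
      refine hx ?_
      simpa [mul_assoc] using this
    · rw [CharInduce.extendByZero_of_not_mem _ hy]
  set β := Cfsg.dadeIsometry A L H (Cfsg.indFun (W₁ ⊔ W₂) f)
  let f' : ↥(W₁.map L.subtype ⊔ W₂.map L.subtype) → ℂ := fun w => f ((supEquiv W₁ W₂).symm w)
  have hcl := CharInduce.isClassFunction_indFun (W₁ ⊔ W₂) f
  have hf' : ∀ w : ↥(W₁.map L.subtype ⊔ W₂.map L.subtype),
      (w : G) ∈ W₁.map L.subtype ∨ (w : G) ∈ W₂.map L.subtype → f' w = 0 := by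
    intro w hw
    refine hf _ ?_
    rw [← (supEquiv W₁ W₂).apply_symm_apply w, supEquiv_coe] at hw
    exact hw.imp (Subgroup.mem_map_iff_mem L.subtype_injective).1
      (Subgroup.mem_map_iff_mem L.subtype_injective).1
  have hpair : ∀ F : G → ℂ, Cfsg.IsClassFunction G F →
      Cfsg.classInner β F = Cfsg.classInner f' (fun w => F w) := by
    intro F hF
    rw [PF7.classInner_invDade d.dade hcl hαA hF, CharInduce.classInner_indFun_left _ _ _
      (PF7.invDade_isClassFunction d.dade hF),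
      PF3.classInner_congr_right (F' := fun w : ↥(W₁ ⊔ W₂) => F ((w : L) : G)) (fun w hw => ?_)]
    · rw [← CharInduce.classInner_comp_mulEquiv (supEquiv W₁ W₂).symm f
        (fun w : ↥(W₁ ⊔ W₂) => F ((w : L) : G))]
      refine congrArg (Cfsg.classInner f') (funext fun w => congrArg F ?_)
      rw [← supEquiv_coe, MulEquiv.apply_symm_apply]
    · have h1 : (w : L) ∉ W₁ := fun h => hw (hf w (Or.inl h))
      have h2 : (w : L) ∉ W₂ := fun h => hw (hf w (Or.inr h))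
      refine PF7.invDade_eq_of_eq_on (d.V_subset _ w.2 h1 h2) fun u hu => ?_
      rw [d.H_eq_bot w h1 h2, Subgroup.mem_bot] at hu
      rw [hu, mul_one]
  refine (PF3.eq_sum_of_pairing d.selfNorm hχ hf'
    (H43.dade_isClassFunction d.dade hcl) hpair).trans ?_
  refine (Fintype.sum_equiv (linEquiv W₁ W₂) _ _ fun ω => ?_).symm
  rw [← CharInduce.classInner_comp_mulEquiv (supEquiv W₁ W₂).symm f (fun w => (ω w : ℂ))]
  rfl

/-- Peterfalvi (4.8): the four term differences. -/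
theorem dade_sub2 {φ φ' ψ : ↥(W₁ ⊔ W₂) →* ℂˣ} (hφ : TrivR φ) (hφ' : TrivR φ') (hψ : TrivL ψ) :
    Cfsg.dadeIsometry A L H (d.prime.delta (φ * ψ) • (d.prime.mu (φ * ψ) - d.prime.mu (φ' * ψ)) -
        (d.prime.mu φ - d.prime.mu φ')) =
      eta χ (φ * ψ) - eta χ (φ' * ψ) - (eta χ φ - eta χ φ') := by
  classical
  haveI : Fintype ↥(W₁ ⊔ W₂) := Fintype.ofFinite _
  have e1 := d.prime.ind_sub (ω := φ * ψ) (ω' := φ' * ψ) fun w hw => by simp [hφ w hw, hφ' w hw]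
  have e2 := d.prime.ind_sub (ω := φ) (ω' := φ') fun w hw => by rw [hφ w hw, hφ' w hw]
  rw [(d.prime.mu_trivR hφ).2, one_smul] at e2
  rw [← e1, ← e2, ← CharInduce.indFun_sub, d.dade_ind hχ]
  · have hc : ∀ (a b : ↥(W₁ ⊔ W₂) →* ℂˣ) ω,
        Cfsg.classInner (fun w => (a w : ℂ) - (b w : ℂ)) (fun w => (ω w : ℂ)) =
          (if a = ω then 1 else 0) - (if b = ω then 1 else 0) := fun a b ω => by
      rw [← linear_orth a ω, ← linear_orth b ω, ← CharBasic.classInner_sub_left]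
      rfl
    simp only [CharBasic.classInner_sub_left, hc, sub_smul, ite_smul, one_smul, zero_smul,
      sum_sub_distrib, sum_ite_eq, mem_univ, if_true]
  · rintro w (hw | hw)
    · simp [hψ w hw]
    · simp [hφ w hw, hφ' w hw]

end DadeHyp

section Vanish

variable [Fintype L]

/-- Peterfalvi (4.7): a character of `K` nontrivial on `N` vanishes outside `A ∪ {1}`. -/
theorem SuppHyp.vanish (s : SuppHyp K W₂ N A) {θ : K → ℂ} (hθ : Cfsg.IsIrrCharacter K θ)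
    (hnt : ∃ n : K, (n : L) ∈ N ∧ θ n ≠ θ 1) {k : K} (hk1 : (k : L) ≠ 1)
    (hkA : ((k : L) : G) ∉ A) : θ k = 0 := by
  obtain ⟨m, ρ, hρ, rfl⟩ := hθ
  haveI := s.normal
  obtain ⟨n, hn, hne⟩ := hnt
  refine Cfsg.Agent.S0181.result ρ (N.subgroupOf K) ⟨n, Subgroup.mem_subgroupOf.2 hn, fun e => hne ?_⟩
    k fun x hx hc => ?_
  · show LinearMap.trace ℂ _ (ρ n) = LinearMap.trace ℂ _ (ρ 1)
    rw [map_one, e]
    rfl
  · by_contra hx1
    refine hkA (s.mem k k.2 hk1 x (Subgroup.mem_subgroupOf.1 hx) (fun e => hx1 (Subtype.ext e)) ?_)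
    exact (congrArg Subtype.val hc).symm

/-- The functions induced from such characters vanish outside `A ∪ {1}`. -/
theorem SuppHyp.indFun_vanish [K.Normal] (s : SuppHyp K W₂ N A) (hD : Cfsg.DadeHypothesis A L H)
    {θ : K → ℂ} (hθ : Cfsg.IsIrrCharacter K θ) (hnt : ∃ n : K, (n : L) ∈ N ∧ θ n ≠ θ 1)
    {g : L} (hg1 : g ≠ 1) (hgA : (g : G) ∉ A) : Cfsg.indFun K θ g = 0 := by
  rw [CharInduce.indFun_apply, sum_eq_zero, mul_zero]
  intro y _
  by_cases hy : y⁻¹ * g * y ∈ K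
  · rw [CharInduce.extendByZero_of_mem _ hy]
    refine s.vanish hθ hnt (fun e => hg1 ?_) (fun h => hgA ?_)
    · have e' : y⁻¹ * g * y = 1 := e
      calc g = y * (y⁻¹ * g * y) * y⁻¹ := by group
        _ = 1 := by rw [e', mul_one, mul_inv_cancel]
    · have := hD.conj_mem y y.2 _ h
      simpa [mul_assoc] using this
  · rw [CharInduce.extendByZero_of_not_mem _ hy]

end Vanish

namespace Hyp

variable [Fintype L] (h : Hyp K W₁ W₂)

include h

/-- A character nontrivial on `W₂` restricts to a character of `K` nontrivial on `N`. -/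
theorem theta_nt (hN : W₂ ≤ N) {ω : ↥(W₁ ⊔ W₂) →* ℂˣ}
    (hω : ∃ w : ↥(W₁ ⊔ W₂), (w : L) ∈ W₂ ∧ ω w ≠ 1) :
    ∃ n : K, (n : L) ∈ N ∧ h.theta ω n ≠ h.theta ω 1 := by
  obtain ⟨b, hb, hne⟩ := hω
  refine ⟨⟨b, h.le hb⟩, hN hb, fun e => hne ?_⟩
  obtain ⟨a, -, ha2⟩ := h.exists_mem_one
  have e1 : h.mu ω (b : L) = h.mu ω 1 := e
  have e2 := CharBasic.IsChar.eq_one_mul (CharBasic.IsIrr.isCharacter (h.mu_irr ω)) e1 (a : L)
  have hba : ((b * a : ↥(W₁ ⊔ W₂)) : L) ∉ W₂ := fun hc =>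
    ha2 (by simpa using W₂.mul_mem (W₂.inv_mem hb) hc)
  have e3 := h.mu_apply ω (b * a) hba
  rw [Subgroup.coe_mul, e2, h.mu_apply ω a ha2, map_mul, Units.val_mul] at e3
  have e4 : (1 : ℂ) * (ω a : ℂ) = (ω b : ℂ) * (ω a : ℂ) := by
    rw [one_mul]; exact mul_left_cancel₀ (h.delta_ne_zero ω) e3
  exact Units.ext (mul_right_cancel₀ (Units.ne_zero _) e4).symm

/-- Equal degrees force equal signs. -/
theorem delta_eq_of_degree {ω ω' : ↥(W₁ ⊔ W₂) →* ℂˣ} (e : h.mu ω 1 = h.mu ω' 1) :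
    h.delta ω = h.delta ω' := by
  obtain ⟨n, hn⟩ := h.mu_one_mod ω
  obtain ⟨n', hn'⟩ := h.mu_one_mod ω'
  obtain ⟨ho, -, h3, -⟩ := PF3.card_facts h.pair h.odd
  have key : h.delta ω' - h.delta ω = (((n - n') * (Nat.card W₁ : ℤ) : ℤ) : ℂ) := by
    push_cast
    linear_combination hn - hn' - e
  rcases h.delta_eq ω with a | a <;> rcases h.delta_eq ω' with b | b <;> rw [a, b] at key ⊢
  · exfalso
    have h2 : (n - n') * (Nat.card W₁ : ℤ) = -2 := by
      apply Int.cast_injective (α := ℂ)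
      rw [← key]; norm_num
    have : (Nat.card W₁ : ℤ) ∣ 2 := ⟨-(n - n'), by linarith⟩
    have := Int.le_of_dvd (by norm_num) this
    omega
  · exfalso
    have h2 : (n - n') * (Nat.card W₁ : ℤ) = 2 := by
      apply Int.cast_injective (α := ℂ)
      rw [← key]; norm_num
    have : (Nat.card W₁ : ℤ) ∣ 2 := ⟨(n - n'), by linarith⟩
    have := Int.le_of_dvd (by norm_num) this
    omega

end Hyp

namespace DadeHyp

variable (d : DadeHyp K W₁ W₂ A H) [Fintype G]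
  {χ : (↥(W₁.map L.subtype ⊔ W₂.map L.subtype) →* ℂˣ) → (G → ℂ)}
  (hχ : Cfsg.IsCyclicTIFamily (W₁.map L.subtype) (W₂.map L.subtype) χ) [Fintype L]
  (s : SuppHyp K W₂ N A)

include d s

theorem mu_sub_vanish {ω ω' : ↥(W₁ ⊔ W₂) →* ℂˣ}
    (hω : ∃ w : ↥(W₁ ⊔ W₂), (w : L) ∈ W₂ ∧ ω w ≠ 1)
    (hω' : ∃ w : ↥(W₁ ⊔ W₂), (w : L) ∈ W₂ ∧ ω' w ≠ 1)
    (hag : ∀ w : ↥(W₁ ⊔ W₂), (w : L) ∈ W₁ → ω w = ω' w) (hdeg : d.prime.mu ω 1 = d.prime.mu ω' 1)
    (x : L) (hx : (x : G) ∉ A) : (d.prime.mu ω - d.prime.mu ω') x = 0 := by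
  haveI := Fintype.ofFinite K
  rw [Pi.sub_apply, sub_eq_zero]
  by_cases hx1 : x = 1
  · rw [hx1, hdeg]
  by_cases hxK : x ∈ K
  · have e1 := s.vanish (d.prime.theta_irr ω) (d.prime.theta_nt s.W₂_le hω)
      (k := ⟨x, hxK⟩) hx1 hx
    have e2 := s.vanish (d.prime.theta_irr ω') (d.prime.theta_nt s.W₂_le hω')
      (k := ⟨x, hxK⟩) hx1 hx
    exact e1.trans e2.symm
  obtain ⟨y, -, w, hw2, hyw⟩ := d.prime.exists_conj_mem hxK
  have hval : ∀ η : ↥(W₁ ⊔ W₂) →* ℂˣ, d.prime.mu η x = d.prime.delta η * (η w : ℂ) := fun η => by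
    rw [← d.prime.mu_apply η w hw2, ← hyw, CharBasic.IsIrr.isClassFunction (d.prime.mu_irr η) x y]
  rw [hval, hval, d.prime.delta_eq_of_degree hdeg]
  by_cases hw1 : (w : L) ∈ W₁
  · rw [hag w hw1]
  · exfalso
    apply hx
    have := d.dade.conj_mem (y⁻¹ : L) (y⁻¹ : L).2 _ (d.V_subset _ w.2 hw1 hw2)
    rw [← hyw] at this
    simpa [mul_assoc] using this

include hχ

/-- Peterfalvi (4.8): differences of equal degree. -/
theorem dade_mu_sub {ω ω' : ↥(W₁ ⊔ W₂) →* ℂˣ}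
    (hω : ∃ w : ↥(W₁ ⊔ W₂), (w : L) ∈ W₂ ∧ ω w ≠ 1)
    (hω' : ∃ w : ↥(W₁ ⊔ W₂), (w : L) ∈ W₂ ∧ ω' w ≠ 1)
    (hag : ∀ w : ↥(W₁ ⊔ W₂), (w : L) ∈ W₁ → ω w = ω' w) (hdeg : d.prime.mu ω 1 = d.prime.mu ω' 1) :
    Cfsg.dadeIsometry A L H (d.prime.mu ω - d.prime.mu ω') =
      d.prime.delta ω • (eta χ ω - eta χ ω') := by
  classical
  by_cases hne : ω = ω'
  · subst hne
    rw [sub_self, sub_self, dade_zero, smul_zero]
  have hgen : Cfsg.IsGeneralizedCharacter L (d.prime.mu ω - d.prime.mu ω') :=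
    gen_sub (gen_of_irr (d.prime.mu_irr ω)) (gen_of_irr (d.prime.mu_irr ω'))
  have hA := d.mu_sub_vanish s hω hω' hag hdeg
  have hcl := gen_isClassFunction hgen
  have hN : Cfsg.classInner (Cfsg.dadeIsometry A L H (d.prime.mu ω - d.prime.mu ω'))
      (Cfsg.dadeIsometry A L H (d.prime.mu ω - d.prime.mu ω')) = 2 := by
    rw [(S1500.result A L H d.dade _ hcl hA).1 _ hcl hA]
    simp only [CharBasic.classInner_sub_left, CharBasic.classInner_sub_right,
      CharBasic.classInner_irr (d.prime.mu_irr _) (d.prime.mu_irr _), d.prime.mu_injective.eq_iff,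
      if_neg hne, if_neg (Ne.symm hne), if_true]
    norm_num
  have hne' : linEquiv W₁ W₂ ω ≠ linEquiv W₁ W₂ ω' := (linEquiv W₁ W₂).injective.ne hne
  refine PF3.eq_sub_of_agree d.selfNorm d.odd hχ (S1501.result A L H d.dade _ hgen hA) hN
    (d.prime.delta_eq ω) hne' fun w h1 h2 => ?_
  obtain ⟨v, rfl⟩ := (supEquiv W₁ W₂).surjective w
  rw [supEquiv_coe] at h1 h2 ⊢
  have hv1 : (v : L) ∉ W₁ := fun h => h1 ((Subgroup.mem_map_iff_mem L.subtype_injective).2 h)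
  have hv2 : (v : L) ∉ W₂ := fun h => h2 ((Subgroup.mem_map_iff_mem L.subtype_injective).2 h)
  rw [H43.dade_apply d.dade hcl (d.V_subset _ v.2 hv1 hv2) (x := 1) (u := 1)
    (Subgroup.one_mem _) (by group), Pi.sub_apply, d.prime.mu_apply ω v hv2,
    d.prime.mu_apply ω' v hv2, ← d.prime.delta_eq_of_degree hdeg, ← mul_sub]
  simp [linEquiv]

end DadeHyp

end Cfsg.Agent.OddOrder.PF4
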