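import Cfsg.Agent.OddOrder.PF4.Prime
import Cfsg.Agent.H43.Galois
import Cfsg.Agent.S1496
import Cfsg.Prelude.Def_OddOrderChar

/-!
# Peterfalvi (4.4), (4.5): the table of characters of `L = K W₁`

Canonical functions `mu`, `delta`, `theta`, and the classification of the irreducible characters.
-/

set_option autoImplicit false

namespace Cfsg.Agent.OddOrder.PF4

open scoped ComplexConjugate
open Cfsg.Agent H43 Finset

universe u

variable {L : Type u} [Group L] [Fintype L] {K W₁ W₂ : Subgroup L}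

namespace Hyp

/-- The character `μ_ω`. -/
noncomputable def mu (h : Hyp K W₁ W₂) (ω : ↥(W₁ ⊔ W₂) →* ℂˣ) : L → ℂ :=
  h.exists_mu.choose ω

/-- The sign `δ_ω`. -/
noncomputable def delta (h : Hyp K W₁ W₂) (ω : ↥(W₁ ⊔ W₂) →* ℂˣ) : ℂ :=
  h.exists_mu.choose_spec.choose ω

variable (h : Hyp K W₁ W₂)

theorem mu_injective : Function.Injective h.mu := h.exists_mu.choose_spec.choose_spec.1

theorem mu_irr (ω : ↥(W₁ ⊔ W₂) →* ℂˣ) : Cfsg.IsIrrCharacter L (h.mu ω) :=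
  h.exists_mu.choose_spec.choose_spec.2.1 ω

theorem delta_eq (ω : ↥(W₁ ⊔ W₂) →* ℂˣ) : h.delta ω = 1 ∨ h.delta ω = -1 :=
  h.exists_mu.choose_spec.choose_spec.2.2.1 ω

theorem delta_congr {ω ω' : ↥(W₁ ⊔ W₂) →* ℂˣ}
    (e : ∀ w : ↥(W₁ ⊔ W₂), (w : L) ∈ W₂ → ω w = ω' w) : h.delta ω = h.delta ω' :=
  (h.exists_mu.choose_spec.choose_spec.2.2.2.1 ω ω' e).1

/-- `Ind (ω − ω') = δ (μ_ω − μ_ω')` for `ω`, `ω'` agreeing on `W₂`. -/
theorem ind_sub {ω ω' : ↥(W₁ ⊔ W₂) →* ℂˣ}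
    (e : ∀ w : ↥(W₁ ⊔ W₂), (w : L) ∈ W₂ → ω w = ω' w) :
    Cfsg.indFun (W₁ ⊔ W₂) (fun w => (ω w : ℂ) - (ω' w : ℂ)) = h.delta ω • (h.mu ω - h.mu ω') :=
  (h.exists_mu.choose_spec.choose_spec.2.2.2.1 ω ω' e).2

theorem mu_apply (ω : ↥(W₁ ⊔ W₂) →* ℂˣ) (w : ↥(W₁ ⊔ W₂)) (hw : (w : L) ∉ W₂) :
    h.mu ω w = h.delta ω * (ω w : ℂ) :=
  h.exists_mu.choose_spec.choose_spec.2.2.2.2.1 ω w hw

theorem other_eq_zero {θ : L → ℂ} (hθ : Cfsg.IsIrrCharacter L θ) (hne : ∀ ω, θ ≠ h.mu ω)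
    (w : ↥(W₁ ⊔ W₂)) (hw : (w : L) ∉ W₂) : θ w = 0 :=
  h.exists_mu.choose_spec.choose_spec.2.2.2.2.2.1 θ hθ hne w hw

theorem mu_one_mod (ω : ↥(W₁ ⊔ W₂) →* ℂˣ) :
    ∃ n : ℤ, h.mu ω 1 - h.delta ω = n * (Nat.card W₁ : ℂ) :=
  h.exists_mu.choose_spec.choose_spec.2.2.2.2.2.2 ω

theorem delta_mul_self (ω : ↥(W₁ ⊔ W₂) →* ℂˣ) : h.delta ω * h.delta ω = 1 := by
  rcases h.delta_eq ω with e | e <;> simp [e]

theorem delta_ne_zero (ω : ↥(W₁ ⊔ W₂) →* ℂˣ) : h.delta ω ≠ 0 := by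
  rcases h.delta_eq ω with e | e <;> simp [e]

include h

theorem exists_mem_one : ∃ a : ↥(W₁ ⊔ W₂), (a : L) ∈ W₁ ∧ (a : L) ∉ W₂ := by
  obtain ⟨a, ha, ha1⟩ := W₁.bot_or_exists_ne_one.resolve_left h.ne_bot₁
  exact ⟨⟨a, Subgroup.mem_sup_left ha⟩, ha, fun hb => ha1 (h.mem_inf_iff (h.le hb) ha)⟩

/-- Two signed linear characters agreeing outside `W₂` are equal. -/
theorem eq_of_agree {ω ω' : ↥(W₁ ⊔ W₂) →* ℂˣ} {c c' : ℂ} (hc : c = 1 ∨ c = -1)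
    (hc' : c' = 1 ∨ c' = -1)
    (e : ∀ w : ↥(W₁ ⊔ W₂), (w : L) ∉ W₂ → c * (ω w : ℂ) = c' * (ω' w : ℂ)) :
    c = c' ∧ ω = ω' := by
  obtain ⟨a, ha, ha2⟩ := h.exists_mem_one
  have hne : a * a ≠ 1 := by
    intro e2
    have ho : orderOf a ∣ 2 := orderOf_dvd_of_pow_eq_one (by rw [pow_two]; exact e2)
    rcases (Nat.dvd_prime Nat.prime_two).1 ho with h1 | h1
    · exact ha2 (by rw [orderOf_eq_one_iff.1 h1]; exact W₂.one_mem)
    · have := h.odd.of_dvd_nat (orderOf_dvd_natCard a)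
      rw [h1] at this
      exact absurd this (by decide)
  have haa : ((a * a : ↥(W₁ ⊔ W₂)) : L) ∉ W₂ := fun hb =>
    hne (Subtype.ext (h.mem_inf_iff (h.le hb) (mul_mem ha ha)))
  have e1 := e a ha2
  have e2 := e (a * a) haa
  simp only [map_mul, Units.val_mul] at e2
  have hω' := Units.ne_zero (ω' a)
  have hcc : c = c' := by
    have hc2 : c * c = 1 := by rcases hc with a1 | a1 <;> simp [a1]
    have hc'2 : c' * c' = 1 := by rcases hc' with a1 | a1 <;> simp [a1]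
    have h4 : c * ((ω' a : ℂ) * (ω' a : ℂ)) = c' * ((ω' a : ℂ) * (ω' a : ℂ)) := by
      linear_combination e2 - (c * (ω a : ℂ) + c' * (ω' a : ℂ)) * c * e1 +
        (c * (ω a : ℂ) * (ω a : ℂ)) * hc2 - (c * (ω' a : ℂ) * (ω' a : ℂ)) * hc'2
    exact mul_right_cancel₀ (mul_ne_zero hω' hω') h4
  refine ⟨hcc, ?_⟩
  subst hcc
  have hc0 : c ≠ 0 := by rcases hc with a1 | a1 <;> simp [a1]
  have hoff : ∀ w : ↥(W₁ ⊔ W₂), (w : L) ∉ W₂ → ω w = ω' w := fun w hw =>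
    Units.ext (mul_left_cancel₀ hc0 (e w hw))
  ext w
  by_cases hw : (w : L) ∈ W₂
  · have h1 := hoff (a * w) (fun hb => ha2 (by
      have := W₂.mul_mem hb (W₂.inv_mem hw)
      simpa [Subgroup.coe_mul] using this))
    rw [map_mul, map_mul, hoff a ha2] at h1
    rw [mul_left_cancel h1]
  · rw [hoff w hw]

/-- An irreducible character agreeing with `c ω` outside `W₂` is `μ_ω`. -/
theorem eq_mu {θ : L → ℂ} (hθ : Cfsg.IsIrrCharacter L θ) {c : ℂ} (hc : c = 1 ∨ c = -1)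
    {ω : ↥(W₁ ⊔ W₂) →* ℂˣ}
    (e : ∀ w : ↥(W₁ ⊔ W₂), (w : L) ∉ W₂ → θ w = c * (ω w : ℂ)) :
    θ = h.mu ω ∧ c = h.delta ω := by
  obtain ⟨a, -, ha2⟩ := h.exists_mem_one
  obtain ⟨ω', rfl⟩ : ∃ ω', θ = h.mu ω' := by
    by_contra hne
    push Not at hne
    have := h.other_eq_zero hθ hne a ha2
    rw [e a ha2] at this
    rcases mul_eq_zero.1 this with h1 | h1
    · rcases hc with a1 | a1 <;> simp [a1] at h1
    · exact Units.ne_zero _ h1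
  obtain ⟨h1, rfl⟩ := h.eq_of_agree hc (h.delta_eq ω') fun w hw => by rw [← e w hw, h.mu_apply ω' w hw]
  exact ⟨rfl, h1⟩

/-- The projection `L → W₁`. -/
theorem exists_proj : ∃ p : L →* W₁, (∀ k ∈ K, p k = 1) ∧ ∀ a : W₁, p (a : L) = a := by
  haveI := h.normal
  let j : W₁ →* L ⧸ K := (QuotientGroup.mk' K).comp W₁.subtype
  have hj : Function.Bijective j := by
    refine ⟨(injective_iff_map_eq_one j).2 fun a ha => ?_, fun q => ?_⟩
    · exact Subtype.ext (h.mem_inf_iff ((QuotientGroup.eq_one_iff (a : L)).1 ha) a.2)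
    · obtain ⟨g, rfl⟩ := QuotientGroup.mk_surjective q
      obtain ⟨k, hk, w, hw, rfl⟩ := h.exists_factor_mem g
      refine ⟨⟨w, hw⟩, ?_⟩
      show (w : L ⧸ K) = ((k * w : L) : L ⧸ K)
      rw [QuotientGroup.mk_mul, (QuotientGroup.eq_one_iff k).2 hk, one_mul]
  let e := MulEquiv.ofBijective j hj
  refine ⟨e.symm.toMonoidHom.comp (QuotientGroup.mk' K), fun k hk => ?_, fun a => ?_⟩
  · show e.symm (k : L ⧸ K) = 1
    rw [(QuotientGroup.eq_one_iff k).2 hk, map_one]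
  · exact e.symm_apply_apply a

omit h in
/-- The linear character of `L` attached to `φ`. -/
noncomputable def lam (h : Hyp K W₁ W₂) (φ : ↥(W₁ ⊔ W₂) →* ℂˣ) : L →* ℂˣ :=
  (φ.comp (Subgroup.inclusion le_sup_left)).comp h.exists_proj.choose

theorem lam_of_mem (φ : ↥(W₁ ⊔ W₂) →* ℂˣ) {k : L} (hk : k ∈ K) : h.lam φ k = 1 := by
  simp only [lam, MonoidHom.comp_apply]
  rw [h.exists_proj.choose_spec.1 k hk]
  simp only [map_one]

theorem lam_apply {φ : ↥(W₁ ⊔ W₂) →* ℂˣ} (hφ : TrivR φ) (w : ↥(W₁ ⊔ W₂)) :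
    h.lam φ w = φ w := by
  obtain ⟨a, b, ha, hb, rfl⟩ := exists_mul_decomp h.pair w
  rw [Subgroup.coe_mul, map_mul, map_mul, h.lam_of_mem φ (h.le hb), hφ b hb]
  simp only [lam, MonoidHom.comp_apply]
  rw [show (h.exists_proj.choose (a : L)) = ⟨a, ha⟩ from h.exists_proj.choose_spec.2 ⟨a, ha⟩]
  rfl

theorem mu_mul {φ : ↥(W₁ ⊔ W₂) →* ℂˣ} (hφ : TrivR φ) (ω : ↥(W₁ ⊔ W₂) →* ℂˣ) :
    h.mu (φ * ω) = (fun g => (h.lam φ g : ℂ) * h.mu ω g) ∧ h.delta (φ * ω) = h.delta ω := by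
  classical
  have hirr : Cfsg.IsIrrCharacter L (fun g => (h.lam φ g : ℂ) * h.mu ω g) := by
    refine CharInduce.isIrr_of_norm_one (CharInduce.IsChar.mul (CharInduce.isCharacter_hom _)
      (CharBasic.IsIrr.isCharacter (h.mu_irr ω))) ?_
    rw [← CharBasic.classInner_irr_self (h.mu_irr ω)]
    simp only [CharBasic.classInner_def, map_mul]
    congr 1
    refine sum_congr rfl fun g _ => ?_
    rw [mul_mul_mul_comm, Complex.mul_conj', CharInduce.norm_hom]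
    simp
  obtain ⟨e1, e2⟩ := h.eq_mu hirr (h.delta_eq ω) (ω := φ * ω) fun w hw => by
    rw [h.lam_apply hφ, h.mu_apply ω w hw, MonoidHom.mul_apply, Units.val_mul]
    ring
  exact ⟨e1.symm, e2.symm⟩

theorem mu_trivR {φ : ↥(W₁ ⊔ W₂) →* ℂˣ} (hφ : TrivR φ) :
    h.mu φ = (fun g => (h.lam φ g : ℂ)) ∧ h.delta φ = 1 := by
  obtain ⟨e1, e2⟩ := h.eq_mu (CharInduce.isIrrCharacter_hom (h.lam φ)) (Or.inl rfl) (ω := φ)
    fun w _ => by rw [h.lam_apply hφ, one_mul]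
  exact ⟨e1.symm, e2.symm⟩

theorem mu_one : h.mu 1 = (fun _ => 1) ∧ h.delta 1 = 1 := by
  obtain ⟨e1, e2⟩ := h.mu_trivR (φ := 1) trivR_one
  refine ⟨?_, e2⟩
  rw [e1]
  funext g
  simp [lam]

omit h in
/-- The restriction `θ_ω` of `μ_ω` to `K`. -/
noncomputable def theta (h : Hyp K W₁ W₂) (ω : ↥(W₁ ⊔ W₂) →* ℂˣ) : K → ℂ :=
  fun k => h.mu ω k

theorem theta_congr {ω ω' : ↥(W₁ ⊔ W₂) →* ℂˣ}
    (e : ∀ w : ↥(W₁ ⊔ W₂), (w : L) ∈ W₂ → ω w = ω' w) : h.theta ω = h.theta ω' := by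
  have hφ : TrivR (ω * ω'⁻¹) := fun w hw => by simp [e w hw]
  have := (h.mu_mul hφ ω').1
  rw [show ω * ω'⁻¹ * ω' = ω from by ext; simp] at this
  funext k
  show h.mu ω k = h.mu ω' k
  rw [this]
  simp [h.lam_of_mem _ k.2]

open scoped Classical in
theorem ind_one [Fintype ↥(W₁ ⊔ W₂)] :
    Cfsg.indFun K (fun _ => 1) = ∑ φ ∈ univ.filter (fun φ : ↥(W₁ ⊔ W₂) →* ℂˣ => TrivR φ),
      fun g => (h.lam φ g : ℂ) := by
  haveI := h.normal
  haveI := h.pair.2.2.2.2.1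
  have hcard : (univ.filter (fun φ : ↥(W₁ ⊔ W₂) →* ℂˣ => TrivR φ)).card = Nat.card W₁ := by
    rw [← (PF3.card_trivR_trivL h.pair).1, Nat.card_eq_fintype_card, Fintype.card_subtype]
  funext g
  rw [Finset.sum_apply]
  by_cases hg : g ∈ K
  · have e := CharInduce.indFun_normal_coe K (fun _ => (1 : ℂ)) ⟨g, hg⟩
    have hL : ∑ x : L, CharInduce.conjFun K (fun _ => (1 : ℂ)) x ⟨g, hg⟩ = (Nat.card L : ℂ) := by
      rw [Nat.card_eq_fintype_card]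
      simp [CharInduce.conjFun]
    have hR : ∑ φ ∈ univ.filter (fun φ : ↥(W₁ ⊔ W₂) →* ℂˣ => TrivR φ), ((h.lam φ g : ℂˣ) : ℂ)
        = (Nat.card W₁ : ℂ) := by
      rw [sum_congr rfl fun φ _ => by rw [h.lam_of_mem φ hg, Units.val_one], sum_const, hcard,
        nsmul_eq_mul, mul_one]
    rw [hR]
    refine e.trans ?_
    rw [hL, ← K.card_mul_index, h.index_eq, Nat.cast_mul, ← mul_assoc,
      inv_mul_cancel₀ (CharInduce.card_ne_zero_complex _), one_mul]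
  · rw [CharInduce.indFun_eq_zero_of_normal K _ hg]
    obtain ⟨k, hk, a, ha, rfl⟩ := h.exists_factor_mem g
    have ha2 : a ∉ W₂ := fun hb => hg (K.mul_mem hk (h.le hb))
    have hs := sum_linear_trivial_on (W₂.subgroupOf (W₁ ⊔ W₂)) ⟨a, Subgroup.mem_sup_left ha⟩
    rw [if_neg fun hb => ha2 (Subgroup.mem_subgroupOf.1 hb)] at hs
    rw [eq_comm]
    refine Eq.trans ?_ hs
    rw [Finset.sum_filter, Finset.sum_filter]
    refine sum_congr rfl fun φ _ => ?_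
    by_cases hφ : TrivR φ
    · rw [if_pos hφ, if_pos (show ∀ y ∈ W₂.subgroupOf (W₁ ⊔ W₂), φ y = 1 from hφ), map_mul, h.lam_of_mem φ hk, one_mul,
        ← h.lam_apply hφ ⟨a, Subgroup.mem_sup_left ha⟩]
    · rw [if_neg hφ, if_neg (show ¬∀ y ∈ W₂.subgroupOf (W₁ ⊔ W₂), φ y = 1 from hφ)]

open scoped Classical in
/-- `Ind θ_ω` is the sum of the `μ` agreeing with `ω` on `W₂`. -/
theorem ind_theta [Fintype ↥(W₁ ⊔ W₂)] (ω : ↥(W₁ ⊔ W₂) →* ℂˣ) :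
    Cfsg.indFun K (h.theta ω) =
      ∑ φ ∈ univ.filter (fun φ : ↥(W₁ ⊔ W₂) →* ℂˣ => TrivR φ), h.mu (φ * ω) := by
  haveI := h.normal
  rw [show h.theta ω = fun k : K => h.mu ω k from rfl,
    PF1.indFun_res_mul K (CharBasic.IsIrr.isClassFunction (h.mu_irr ω)), h.ind_one, sum_mul]
  exact sum_congr rfl fun φ hφ => (h.mu_mul (mem_filter.1 hφ).2 ω).1.symm

theorem theta_fixed (ω : ↥(W₁ ⊔ W₂) →* ℂˣ) (x : L) :
    haveI := h.normal
    CharInduce.conjFun K (h.theta ω) x = h.theta ω := by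
  haveI := h.normal
  exact CharInduce.conjFun_res K (CharBasic.IsIrr.isClassFunction (h.mu_irr ω)) x

open scoped Classical in
theorem classInner_ind_theta [Fintype ↥(W₁ ⊔ W₂)] (ω ω' : ↥(W₁ ⊔ W₂) →* ℂˣ) :
    Cfsg.classInner (Cfsg.indFun K (h.theta ω)) (h.mu ω') =
      if ∀ w : ↥(W₁ ⊔ W₂), (w : L) ∈ W₂ → ω' w = ω w then 1 else 0 := by
  rw [h.ind_theta, CharBasic.classInner_sum_left]
  simp only [CharBasic.classInner_irr (h.mu_irr _) (h.mu_irr _), h.mu_injective.eq_iff]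
  by_cases hag : ∀ w : ↥(W₁ ⊔ W₂), (w : L) ∈ W₂ → ω' w = ω w
  · rw [if_pos hag, sum_eq_single (ω' * ω⁻¹)]
    · rw [if_pos]
      ext; simp
    · intro φ _ hne
      rw [if_neg]
      rintro rfl
      exact hne (by ext; simp)
    · intro hn
      exact absurd (mem_filter.2 ⟨mem_univ _, fun w hw => by simp [hag w hw]⟩) hn
  · rw [if_neg hag]
    refine sum_eq_zero fun φ hφ => if_neg ?_
    rintro rfl
    exact hag fun w hw => by simp [(mem_filter.1 hφ).2 w hw]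

theorem theta_irr [Fintype K] (ω : ↥(W₁ ⊔ W₂) →* ℂˣ) : Cfsg.IsIrrCharacter K (h.theta ω) := by
  classical
  haveI : Fintype ↥(W₁ ⊔ W₂) := Fintype.ofFinite _
  refine CharInduce.isIrr_of_norm_one
    (CharInduce.IsChar.res (CharBasic.IsIrr.isCharacter (h.mu_irr ω)) K) ?_
  show Cfsg.classInner (h.theta ω) (h.theta ω) = 1
  have e := h.classInner_ind_theta ω ω
  rw [if_pos fun w _ => rfl,
    CharInduce.classInner_indFun_left K _ _ (CharBasic.IsIrr.isClassFunction (h.mu_irr ω))] at e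
  exact e

theorem theta_eq_iff [Fintype K] {ω ω' : ↥(W₁ ⊔ W₂) →* ℂˣ} :
    h.theta ω = h.theta ω' ↔ ∀ w : ↥(W₁ ⊔ W₂), (w : L) ∈ W₂ → ω w = ω' w := by
  classical
  haveI : Fintype ↥(W₁ ⊔ W₂) := Fintype.ofFinite _
  refine ⟨fun e => ?_, fun e => h.theta_congr e⟩
  by_contra hne
  have e1 := h.classInner_ind_theta ω' ω
  rw [← e, h.classInner_ind_theta ω ω, if_pos fun w _ => rfl, if_neg hne] at e1
  exact one_ne_zero e1

theorem theta_one : h.theta 1 = fun _ => 1 := by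
  funext k
  show h.mu 1 k = 1
  rw [h.mu_one.1]

/-- The fixed irreducible characters of `K` are the `θ_ω`. -/
theorem exists_theta [Fintype K] {θ : K → ℂ} (hθ : Cfsg.IsIrrCharacter K θ)
    (hfix : haveI := h.normal; ∀ x ∈ W₁, CharInduce.conjFun K θ x = θ) :
    ∃ ω, TrivL ω ∧ θ = h.theta ω := by
  classical
  haveI := h.normal
  let T := {ψ : ↥(W₁ ⊔ W₂) →* ℂˣ // TrivL ψ}
  let F : T → {θ : Cfsg.IrrCharacter K // ∀ y ∈ W₁, CharInduce.conjFun K (θ : K → ℂ) y = θ} :=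
    fun t => ⟨⟨h.theta t.1, h.theta_irr t.1⟩, fun y _ => h.theta_fixed t.1 y⟩
  have hF : Function.Injective F := by
    intro a b e
    have e' : h.theta a.1 = h.theta b.1 := congrArg (fun z => ((z.1 : Cfsg.IrrCharacter K) : K → ℂ)) e
    exact Subtype.ext (linear_ext h.pair (fun w hw => by rw [a.2 w hw, b.2 w hw])
      (h.theta_eq_iff.1 e'))
  have hbij := hF.bijective_of_nat_card_le (by
    rw [h.card_fixed_irr.2, (PF3.card_trivR_trivL h.pair).2])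
  obtain ⟨t, ht⟩ := hbij.2 ⟨⟨θ, hθ⟩, hfix⟩
  exact ⟨t.1, t.2, (congrArg (fun z => ((z.1 : Cfsg.IrrCharacter K) : K → ℂ)) ht).symm⟩

/-- Peterfalvi (4.5): the irreducible characters of `L`. -/
theorem irr_cases [Fintype K] {χ : L → ℂ} (hχ : Cfsg.IsIrrCharacter L χ) :
    haveI := h.normal
    (∃ ω, χ = h.mu ω) ∨ ∃ θ : K → ℂ, Cfsg.IsIrrCharacter K θ ∧
      (∃ x ∈ W₁, CharInduce.conjFun K θ x ≠ θ) ∧ χ = Cfsg.indFun K θ := by
  classical
  haveI := h.normal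
  haveI : Fintype ↥(W₁ ⊔ W₂) := Fintype.ofFinite _
  obtain ⟨θ, hθ⟩ := CharInduce.exists_constituent
    (CharInduce.IsChar.res (CharBasic.IsIrr.isCharacter hχ) K)
    (fun e => CharBasic.IsIrr.one_ne_zero hχ (by simpa using congrFun e 1))
  have hne : Cfsg.classInner (Cfsg.indFun K (θ : K → ℂ)) χ ≠ 0 := by
    rw [CharInduce.classInner_indFun_left K _ χ (CharBasic.IsIrr.isClassFunction hχ),
      ← CharInduce.conj_classInner]
    intro e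
    apply hθ
    simpa using congrArg (starRingEnd ℂ) e
  by_cases hfix : ∀ x ∈ W₁, CharInduce.conjFun K (θ : K → ℂ) x = θ
  · obtain ⟨ω, -, hω⟩ := h.exists_theta θ.2 hfix
    rw [hω, h.ind_theta, CharBasic.classInner_sum_left] at hne
    obtain ⟨φ, -, hφ⟩ := exists_ne_zero_of_sum_ne_zero hne
    refine Or.inl ⟨φ * ω, by_contra fun e => hφ ?_⟩
    exact CharBasic.classInner_irr_of_ne (h.mu_irr _) hχ (fun e' => e e'.symm)
  · push Not at hfix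
    obtain ⟨x, hx, hxne⟩ := hfix
    refine Or.inr ⟨θ, θ.2, ⟨x, hx, hxne⟩, by_contra fun e => hne ?_⟩
    exact CharBasic.classInner_irr_of_ne ((h.induce θ.2).1 ⟨x, hx, hxne⟩) hχ (fun e' => e e'.symm)

/-- Induced characters of `K` vanish outside `K`; so none of them is a `μ`. -/
theorem ind_ne_mu (θ : K → ℂ) (ω : ↥(W₁ ⊔ W₂) →* ℂˣ) : Cfsg.indFun K θ ≠ h.mu ω := by
  haveI := h.normal
  obtain ⟨a, ha, ha2⟩ := h.exists_mem_one
  intro e
  have h1 := congrFun e (a : L)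
  rw [CharInduce.indFun_eq_zero_of_normal K θ (fun hk => ha2 (by
    rw [h.mem_inf_iff hk ha]; exact W₂.one_mem)), h.mu_apply ω a ha2] at h1
  exact mul_ne_zero (h.delta_ne_zero ω) (Units.ne_zero _) h1.symm

/-- Every element outside `K` is conjugate into `W ∖ W₂`. -/
theorem exists_conj_mem {g : L} (hg : g ∉ K) :
    ∃ x ∈ K, ∃ w : ↥(W₁ ⊔ W₂), (w : L) ∉ W₂ ∧ x * g * x⁻¹ = w := by
  haveI := h.normal
  obtain ⟨k, hk, a, ha, rfl⟩ := h.exists_factor_mem g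
  obtain ⟨x, hx, c, hc, hca, e⟩ := S1496.result K a
    (by rw [Subgroup.normalizer_eq_top]; exact Subgroup.mem_top _)
    (h.coprime.coprime_dvd_left (by
      simpa [Subgroup.orderOf_mk] using orderOf_dvd_natCard (⟨a, ha⟩ : W₁))) k hk
  have ha1 : a ≠ 1 := fun e' => hg (by rw [e', mul_one]; exact hk)
  have hcW : c ∈ W₂ := by
    rw [← h.centralizer_eq a ha ha1]
    exact ⟨hc, Subgroup.mem_centralizer_singleton_iff.2 hca⟩
  refine ⟨x, hx, ⟨c * a, mul_mem (Subgroup.mem_sup_right hcW) (Subgroup.mem_sup_left ha)⟩, ?_, e⟩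
  intro hb
  refine ha1 (h.mem_inf_iff (h.le ?_) ha)
  have := W₂.mul_mem (W₂.inv_mem hcW) hb
  simpa using this

/-- Galois equivariance. -/
theorem mu_aut (σ : ℂ ≃+* ℂ) (ω : ↥(W₁ ⊔ W₂) →* ℂˣ) :
    h.mu ((Units.map (σ : ℂ →* ℂ)).comp ω) = (fun g => σ (h.mu ω g)) ∧
      h.delta ((Units.map (σ : ℂ →* ℂ)).comp ω) = h.delta ω := by
  have hσδ : σ (h.delta ω) = h.delta ω := by
    rcases h.delta_eq ω with e | e <;> simp [e]
  obtain ⟨e1, e2⟩ := h.eq_mu (aut_irr σ (h.mu_irr ω)) (h.delta_eq ω)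
    (ω := (Units.map (σ : ℂ →* ℂ)).comp ω) fun w hw => by
      rw [h.mu_apply ω w hw, map_mul, hσδ]
      rfl
  exact ⟨e1.symm, e2.symm⟩

theorem mu_inv (ω : ↥(W₁ ⊔ W₂) →* ℂˣ) :
    h.mu ω⁻¹ = Cfsg.conjFun (h.mu ω) ∧ h.delta ω⁻¹ = h.delta ω := by
  haveI : Finite ↥(W₁ ⊔ W₂) := inferInstance
  obtain ⟨e1, e2⟩ := h.eq_mu (CharInduce.IsIrr.conj (h.mu_irr ω)) (h.delta_eq ω) (ω := ω⁻¹)
    fun w hw => by
      show conj (h.mu ω w) = _
      rw [h.mu_apply ω w hw, map_mul, linear_conj, MonoidHom.inv_apply, map_inv]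
      rcases h.delta_eq ω with e | e <;> simp [e]
  exact ⟨e1.symm, e2.symm⟩

theorem inv_ne_self {ω : ↥(W₁ ⊔ W₂) →* ℂˣ} (hω : ω ≠ 1) : ω⁻¹ ≠ ω := by
  intro e
  apply hω
  ext w
  have h1 : ω w * ω w = 1 := by
    rw [mul_eq_one_iff_eq_inv, ← MonoidHom.inv_apply, e]
  have h2 : orderOf (ω w) ∣ 2 := orderOf_dvd_of_pow_eq_one (by rw [pow_two]; exact h1)
  have h3 : orderOf (ω w) ∣ Nat.card ↥(W₁ ⊔ W₂) := (orderOf_map_dvd ω w).trans (orderOf_dvd_natCard w)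
  have h4 : orderOf (ω w) = 1 := Nat.eq_one_of_dvd_coprimes (Nat.coprime_two_left.2 h.odd) h2 h3
  rw [orderOf_eq_one_iff.1 h4, MonoidHom.one_apply]

/-- A nontrivial `μ` is not real. -/
theorem conj_mu_ne {ω : ↥(W₁ ⊔ W₂) →* ℂˣ} (hω : ω ≠ 1) : Cfsg.conjFun (h.mu ω) ≠ h.mu ω := by
  intro e
  exact h.inv_ne_self hω (h.mu_injective ((h.mu_inv ω).1.trans e))

end Hyp

end Cfsg.Agent.OddOrder.PF4
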