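import Cfsg.Agent.OddOrder.PF4.Reducible
import Cfsg.Agent.OddOrder.PF6.Induced

/-!
# The coherence system of the characters induced from `K` with `N` outside the kernel

Irreducible members get two signed irreducible characters orthogonal to the family; a reducible
member `red ψ` gets `δ η(φ ψ)`, `−δ η(φ ψ⁻¹)`.
-/

set_option autoImplicit false

open scoped ComplexConjugate

namespace Cfsg.Agent.OddOrder.PF4

open Cfsg.Agent H43 Finset

universe u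

variable {G : Type u} [Group G] [Fintype G] {L : Subgroup G} [Fintype L] {K W₁ W₂ N : Subgroup L}
  {A : Set G} {H : G → Subgroup G}
  {χ : (↥(W₁.map L.subtype ⊔ W₂.map L.subtype) →* ℂˣ) → (G → ℂ)}

namespace DadeHyp

variable (d : DadeHyp K W₁ W₂ A H)
  (hχ : Cfsg.IsCyclicTIFamily (W₁.map L.subtype) (W₂.map L.subtype) χ)
  (s : SuppHyp K W₂ N A)

include d s

/-- Integer combinations of the induced characters vanish outside `A ∪ {1}`. -/
theorem span_vanish {S : Set (L → ℂ)} (hS : ∀ φ ∈ S, ∃ θ : K → ℂ, Cfsg.IsIrrCharacter K θ ∧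
      (∃ n : K, (n : L) ∈ N ∧ θ n ≠ θ 1) ∧ φ = Cfsg.indFun K θ) {α : L → ℂ}
    (hα : α ∈ Cfsg.zspan S) :
    Cfsg.IsGeneralizedCharacter L α ∧ ∀ g : L, g ≠ 1 → (g : G) ∉ A → α g = 0 := by
  haveI := d.prime.normal
  induction hα using Submodule.span_induction with
  | mem φ hφ =>
    obtain ⟨θ, hθ, hnt, rfl⟩ := hS φ hφ
    exact ⟨CharInduce.IsGen.ind K (gen_of_irr hθ),
      fun g h1 hA => s.indFun_vanish d.dade hθ hnt h1 hA⟩
  | zero => exact ⟨gen_zero, fun _ _ _ => rfl⟩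
  | add a b _ _ ha hb =>
    exact ⟨gen_add ha.1 hb.1, fun g h1 hA => by
      rw [Pi.add_apply, ha.2 g h1 hA, hb.2 g h1 hA, add_zero]⟩
  | smul n a _ ha =>
    exact ⟨gen_zsmul ha.1 n, fun g h1 hA => by rw [Pi.smul_apply, ha.2 g h1 hA, smul_zero]⟩

/-- The Dade map is an isometry on the combinations vanishing at one. -/
theorem dade_isometry {S : Set (L → ℂ)} (hS : ∀ φ ∈ S, ∃ θ : K → ℂ, Cfsg.IsIrrCharacter K θ ∧
      (∃ n : K, (n : L) ∈ N ∧ θ n ≠ θ 1) ∧ φ = Cfsg.indFun K θ) :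
    Cfsg.IsLinearIsometryOn (Cfsg.zspanOn S ({1}ᶜ : Set L)) (Cfsg.dadeIsometry A L H) := by
  have hsup : ∀ α ∈ Cfsg.zspanOn S ({1}ᶜ : Set L), Cfsg.IsGeneralizedCharacter L α ∧
      ∀ g : L, (g : G) ∉ A → α g = 0 := fun α hα => by
    rw [zspanOn_compl_one] at hα
    obtain ⟨h1, h2⟩ := d.span_vanish s hS hα.1
    refine ⟨h1, fun g hg => ?_⟩
    by_cases e : g = 1
    · rw [e]; exact hα.2
    · exact h2 g e hg
  exact ⟨fun α _ β _ => dade_add α β, fun α _ n => dade_zsmul n α,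
    fun α hα β hβ => (S1500.result A L H d.dade α (gen_isClassFunction (hsup α hα).1)
      (hsup α hα).2).1 β (gen_isClassFunction (hsup β hβ).1) (hsup β hβ).2,
    fun α hα => S1501.result A L H d.dade α (hsup α hα).1 (hsup α hα).2⟩

include hχ

/-- The image of `φ − conj φ` for irreducible `φ` is orthogonal to the family. -/
theorem dade_irr_orth {S : Set (L → ℂ)} (hS : ∀ φ ∈ S, ∃ θ : K → ℂ, Cfsg.IsIrrCharacter K θ ∧
      (∃ n : K, (n : L) ∈ N ∧ θ n ≠ θ 1) ∧ φ = Cfsg.indFun K θ) {φ : L → ℂ} (hφ : φ ∈ S)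
    (hφ' : Cfsg.conjFun φ ∈ S) (hirr : Cfsg.IsIrrCharacter L φ) (hne : Cfsg.conjFun φ ≠ φ)
    (ω : ↥(W₁ ⊔ W₂) →* ℂˣ) :
    Cfsg.classInner (Cfsg.dadeIsometry A L H (φ - Cfsg.conjFun φ)) (eta χ ω) = 0 := by
  have hmem : φ - Cfsg.conjFun φ ∈ Cfsg.zspanOn S ({1}ᶜ : Set L) := by
    rw [zspanOn_compl_one]
    refine ⟨zspan_sub (zspan_mem hφ) (zspan_mem hφ'), ?_⟩
    obtain ⟨n, hn⟩ := CharBasic.IsChar.exists_degree (CharBasic.IsIrr.isCharacter hirr)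
    simp [Cfsg.conjFun, hn]
  have hτ := d.dade_isometry s hS
  have hirr' : Cfsg.IsIrrCharacter L (Cfsg.conjFun φ) := CharInduce.IsIrr.conj hirr
  have hN : Cfsg.classInner (Cfsg.dadeIsometry A L H (φ - Cfsg.conjFun φ))
      (Cfsg.dadeIsometry A L H (φ - Cfsg.conjFun φ)) = 2 := by
    rw [iso_inner hτ hmem hmem]
    simp only [CharBasic.classInner_sub_left, CharBasic.classInner_sub_right,
      CharBasic.classInner_irr_self hirr, CharBasic.classInner_irr_self hirr',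
      CharBasic.classInner_irr_of_ne hirr hirr' hne.symm,
      CharBasic.classInner_irr_of_ne hirr' hirr hne]
    norm_num
  refine PF3.orth_of_norm_two d.selfNorm d.odd hχ (iso_gen hτ hmem) hN (fun w h1 h2 => ?_) _
  obtain ⟨v, rfl⟩ := (supEquiv W₁ W₂).surjective w
  rw [supEquiv_coe] at h1 h2 ⊢
  have hv1 : (v : L) ∉ W₁ := fun h => h1 ((Subgroup.mem_map_iff_mem L.subtype_injective).2 h)
  have hv2 : (v : L) ∉ W₂ := fun h => h2 ((Subgroup.mem_map_iff_mem L.subtype_injective).2 h)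
  rw [H43.dade_apply d.dade (gen_isClassFunction (gen_sub (gen_of_irr hirr)
    (gen_of_irr hirr'))) (d.V_subset _ v.2 hv1 hv2) (x := 1) (u := 1)
    (Subgroup.one_mem _) (by group), Pi.sub_apply]
  obtain ⟨θ, hθ, hnt, rfl⟩ := hS φ hφ
  rcases d.prime.ind_cases hθ hnt with ⟨-, hnmu⟩ | ⟨ψ, -, -, e⟩
  · show _ - conj (Cfsg.indFun K θ v) = 0
    rw [d.prime.other_eq_zero hirr hnmu v hv2, map_zero, sub_zero]
  · exact absurd (e ▸ hirr) (d.prime.red_not_irr ψ)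

/-- Peterfalvi: the subcoherence of the induced characters with `N` outside the kernel. -/
theorem exists_system (hodd : Odd (Nat.card L)) {S : Set (L → ℂ)} (hne : S.Nonempty)
    (hconj : ∀ φ ∈ S, Cfsg.conjFun φ ∈ S) (hS : ∀ φ ∈ S, ∃ θ : K → ℂ, Cfsg.IsIrrCharacter K θ ∧
      (∃ n : K, (n : L) ∈ N ∧ θ n ≠ θ 1) ∧ φ = Cfsg.indFun K θ) :
    ∃ R : (L → ℂ) → Finset (G → ℂ), Cfsg.IsCoherenceSystem S (Cfsg.dadeIsometry A L H) R ∧
      (∀ φ ∈ S, Cfsg.IsIrrCharacter L φ → ∀ r ∈ R φ, ∀ ω, Cfsg.classInner r (eta χ ω) = 0) ∧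
      (∀ ψ, TrivL ψ → R (d.prime.red ψ) = d.redR χ ψ) := by
  classical
  have hτ := d.dade_isometry s hS
  set Si : Set (L → ℂ) := {φ | φ ∈ S ∧ Cfsg.IsIrrCharacter L φ} with hSi
  have hcases : ∀ φ ∈ S, (φ ∈ Si ∧ ∀ ω, φ ≠ d.prime.mu ω) ∨
      ∃ ψ, TrivL ψ ∧ ¬ TrivR ψ ∧ φ = d.prime.red ψ := by
    intro φ hφ
    obtain ⟨θ, hθ, hnt, rfl⟩ := hS φ hφ
    exact (d.prime.ind_cases hθ hnt).imp_left fun h => ⟨⟨hφ, h.1⟩, h.2⟩
  have hne' : ∀ φ ∈ S, Cfsg.conjFun φ ≠ φ := by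
    intro φ hφ
    rcases hcases φ hφ with ⟨⟨-, hi⟩, hnmu⟩ | ⟨ψ, h1, h2, rfl⟩
    · intro e
      exact hnmu 1 ((CharInduce.eq_one_of_real_of_odd hodd hi (fun g => congrFun e g)).trans
        d.prime.mu_one.1.symm)
    · exact d.prime.conj_red_ne h1 h2
  have hsub : Cfsg.zspanOn Si ({1}ᶜ : Set L) ⊆ Cfsg.zspanOn S ({1}ᶜ : Set L) := fun α hα =>
    ⟨zspan_mono (fun _ h => h.1) hα.1, hα.2⟩
  have hτi : Cfsg.IsLinearIsometryOn (Cfsg.zspanOn Si ({1}ᶜ : Set L)) (Cfsg.dadeIsometry A L H) :=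
    ⟨fun a ha b hb => hτ.1 a (hsub ha) b (hsub hb), fun a ha n => hτ.2.1 a (hsub ha) n,
      fun a ha b hb => hτ.2.2.1 a (hsub ha) b (hsub hb), fun a ha => hτ.2.2.2 a (hsub ha)⟩
  obtain ⟨R₀, hR₀⟩ : ∃ R₀ : (L → ℂ) → Finset (G → ℂ), Si.Nonempty →
      Cfsg.IsCoherenceSystem Si (Cfsg.dadeIsometry A L H) R₀ := by
    by_cases h0 : Si.Nonempty
    · obtain ⟨R₀, h⟩ := S1514.result Si h0 (fun φ h => h.2)
        (fun φ h => ⟨⟨hconj φ h.1, CharInduce.IsIrr.conj h.2⟩, hne' φ h.1⟩) _ hτi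
        fun α _ => dade_one d.dade α
      exact ⟨R₀, fun _ => h⟩
    · exact ⟨fun _ => ∅, fun h => absurd h h0⟩
  let R : (L → ℂ) → Finset (G → ℂ) := fun φ =>
    if h : ∃ ψ, TrivL ψ ∧ φ = d.prime.red ψ then d.redR χ h.choose else R₀ φ
  have hRred : ∀ ψ, TrivL ψ → R (d.prime.red ψ) = d.redR χ ψ := by
    intro ψ hψ
    have hx : ∃ ψ', TrivL ψ' ∧ d.prime.red ψ = d.prime.red ψ' := ⟨ψ, hψ, rfl⟩
    simp only [R, dif_pos hx]
    exact congrArg _ (d.prime.red_inj hx.choose_spec.1 hψ hx.choose_spec.2.symm)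
  have hRirr : ∀ φ ∈ Si, R φ = R₀ φ := fun φ hφ => by
    simp only [R]
    rw [dif_neg]
    rintro ⟨ψ, -, rfl⟩
    exact d.prime.red_not_irr ψ hφ.2
  -- members at irreducible characters are orthogonal to the family
  have hirrorth : ∀ φ ∈ Si, ∀ r ∈ R φ, ∀ ω, Cfsg.classInner r (eta χ ω) = 0 := by
    intro φ hφ r hr ω
    have sys := hR₀ ⟨φ, hφ⟩
    rw [hRirr φ hφ] at hr
    have h0 := d.dade_irr_orth hχ s hS hφ.1 (hconj φ hφ.1) hφ.2 (hne' φ hφ.1) ω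
    rw [sys.sum_eq φ hφ, CharBasic.classInner_sum_left] at h0
    have hsr : Signed r := signed_of_norm_one (sys.virtual φ hφ r hr) (by
      rw [sys.orthonormal φ hφ r hr r hr, if_pos rfl])
    rcases Signed.inner_eq hsr (eta_signed hχ ω) with h | ⟨c, hc, -, hcr, -⟩
    · exact h
    · exfalso
      have hothers : ∀ t ∈ R₀ φ, t ≠ r → Cfsg.classInner t (eta χ ω) = 0 := by
        intro t ht htr
        rcases Signed.inner_eq hsr (eta_signed hχ ω) with h | ⟨c', hc', hre, -, -⟩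
        · rw [hcr] at h; simp [h] at hc
        · have h1 := sys.orthonormal φ hφ t ht r hr
          rw [if_neg htr, hre, CharBasic.classInner_smul_right, mul_eq_zero] at h1
          refine h1.resolve_left fun e => ?_
          rw [map_eq_zero] at e
          simp [e] at hc'
      rw [sum_eq_single r hothers (fun h => absurd hr h), hcr] at h0
      simp [h0] at hc
  have hkey : ∀ φ ∈ Si, ∀ ψ, ∀ a ∈ R φ, ∀ b ∈ d.redR χ ψ,
      Cfsg.classInner a b = 0 ∧ Cfsg.classInner b a = 0 := by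
    intro φ hφ ψ a ha b hb
    have h0 : Cfsg.classInner a b = 0 := by
      obtain ⟨η, -, rfl | rfl⟩ := d.mem_redR hχ hb <;>
        simp [CharBasic.classInner_neg_right, CharBasic.classInner_smul_right,
          hirrorth φ hφ a ha]
    exact ⟨h0, by rw [← CharInduce.conj_classInner, h0, map_zero]⟩
  have hred : ∀ ψ ψ', TrivL ψ → TrivL ψ' → ψ ≠ ψ' → ψ ≠ ψ'⁻¹ → ∀ a ∈ d.redR χ ψ,
      ∀ b ∈ d.redR χ ψ', Cfsg.classInner a b = 0 := by
    intro ψ ψ' h1 h1' hn hn' a ha b hb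
    have hd : ∀ η η₁ : ↥(W₁ ⊔ W₂) →* ℂˣ, TrivR η → TrivR η₁ → η₁ * ψ ≠ η * ψ' ∧
        η₁ * ψ ≠ η * ψ'⁻¹ ∧ η₁ * ψ⁻¹ ≠ η * ψ' ∧ η₁ * ψ⁻¹ ≠ η * ψ'⁻¹ := fun η η₁ hη hη₁ =>
      ⟨fun e => hn (factor_unique d.prime.pair hη₁ hη h1 h1' e).2,
        fun e => hn' (factor_unique d.prime.pair hη₁ hη h1 (Hyp.trivL_inv h1') e).2,
        fun e => hn' (by
          rw [← (factor_unique d.prime.pair hη₁ hη (Hyp.trivL_inv h1) h1' e).2]
          ext; simp),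
        fun e => hn (inv_injective
          (factor_unique d.prime.pair hη₁ hη (Hyp.trivL_inv h1) (Hyp.trivL_inv h1') e).2)⟩
    obtain ⟨η, hη, rfl | rfl⟩ := d.mem_redR hχ hb
    · rw [CharBasic.classInner_smul_right, d.redR_orth_eta hχ ha fun η₁ hη₁ =>
        ⟨(hd η η₁ hη hη₁).1, (hd η η₁ hη hη₁).2.2.1⟩, mul_zero]
    · rw [CharBasic.classInner_neg_right, CharBasic.classInner_smul_right,
        d.redR_orth_eta hχ ha fun η₁ hη₁ => ⟨(hd η η₁ hη hη₁).2.1, (hd η η₁ hη hη₁).2.2.2⟩,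
        mul_zero, neg_zero]
  refine ⟨R, ⟨hne, fun φ hφ => ?_, hconj, hne', hτ, fun α _ => dade_one d.dade α, ?_, ?_, ?_, ?_, ?_⟩,
    fun φ hφ hi => hirrorth φ ⟨hφ, hi⟩, hRred⟩
  · obtain ⟨θ, hθ, -, rfl⟩ := hS φ hφ
    exact CharInduce.IsChar.ind K (CharBasic.IsIrr.isCharacter hθ)
  · intro φ hφ φ' hφ' hn
    rcases hcases φ hφ with ⟨⟨-, hi⟩, hnmu⟩ | ⟨ψ, h1, -, rfl⟩ <;>
      rcases hcases φ' hφ' with ⟨⟨-, hi'⟩, hnmu'⟩ | ⟨ψ', h1', -, rfl⟩
    · exact CharBasic.classInner_irr_of_ne hi hi' hn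
    · exact d.prime.classInner_irr_red hi hnmu ψ'
    · rw [← CharInduce.conj_classInner, d.prime.classInner_irr_red hi' hnmu' ψ, map_zero]
    · exact d.prime.classInner_red_ne fun e => hn (d.prime.red_congr e)
  · intro φ hφ a ha b hb
    rcases hcases φ hφ with ⟨hi, -⟩ | ⟨ψ, h1, h2, rfl⟩
    · rw [hRirr φ hi] at ha hb
      exact (hR₀ ⟨φ, hi⟩).orthonormal φ hi a ha b hb
    · rw [hRred ψ h1] at ha hb
      exact d.redR_orthonormal hχ h1 h2 ha hb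
  · intro φ hφ a ha
    rcases hcases φ hφ with ⟨hi, -⟩ | ⟨ψ, h1, h2, rfl⟩
    · rw [hRirr φ hi] at ha
      exact (hR₀ ⟨φ, hi⟩).virtual φ hi a ha
    · rw [hRred ψ h1] at ha
      obtain ⟨η, -, rfl | rfl⟩ := d.mem_redR hχ ha <;>
        rcases d.prime.delta_eq ψ with e | e <;> simp only [e, one_smul, neg_smul, neg_neg]
      · exact (eta_signed hχ _).gen
      · exact gen_neg (eta_signed hχ _).gen
      · exact gen_neg (eta_signed hχ _).gen
      · exact (eta_signed hχ _).gen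
  · intro φ hφ
    rcases hcases φ hφ with ⟨hi, -⟩ | ⟨ψ, h1, h2, rfl⟩
    · rw [hRirr φ hi]
      exact (hR₀ ⟨φ, hi⟩).sum_eq φ hi
    · rw [hRred ψ h1]
      exact d.redR_sum hχ s h1 h2
  · intro φ hφ φ' hφ' hz hz' a ha b hb
    rcases hcases φ hφ with ⟨hi, -⟩ | ⟨ψ, h1, h2, rfl⟩ <;>
      rcases hcases φ' hφ' with ⟨hi', -⟩ | ⟨ψ', h1', h2', rfl⟩
    · rw [hRirr φ hi] at hb
      rw [hRirr φ' hi'] at ha
      exact (hR₀ ⟨φ, hi⟩).disjoint φ hi φ' hi' hz hz' a ha b hb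
    · exact (hkey φ hi ψ' b hb a (hRred ψ' h1' ▸ ha)).2
    · exact (hkey φ' hi' ψ a ha b (hRred ψ h1 ▸ hb)).1
    · rw [hRred ψ' h1'] at ha
      rw [hRred ψ h1] at hb
      refine hred ψ' ψ h1' h1 ?_ ?_ a ha b hb
      · rintro rfl
        rw [d.prime.classInner_red_self] at hz
        exact CharInduce.card_ne_zero_complex _ hz
      · rintro rfl
        rw [d.prime.red_conj, d.prime.classInner_red_self] at hz'
        exact CharInduce.card_ne_zero_complex _ hz'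

end DadeHyp

end Cfsg.Agent.OddOrder.PF4
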