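import Cfsg.Agent.OddOrder.PF4.Subcoherent
import Cfsg.Agent.OddOrder.PF8.Sets
import Cfsg.Agent.OddOrder.BG16.Exclusive
import Cfsg.Prelude.Def_OddOrder

/-!
# Peterfalvi (8.16): the hypotheses of section 4 for a subgroup of type P

`L := M`, `K := M'`, `A := A₀(M)`, `N := M_s`. The Dade hypothesis for `A₀(M)` enters as a
hypothesis (S1537).
-/

set_option autoImplicit false

namespace Cfsg.Agent.OddOrder.PF4

open Subgroup

universe u

variable {G : Type u} [Group G] [Finite G] {M W₁ U W₂ : Subgroup G}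

theorem mem_subgroupOf_sup {A B : Subgroup G} (hA : A ≤ M) (hB : B ≤ M) {x : M} :
    x ∈ A.subgroupOf M ⊔ B.subgroupOf M ↔ (x : G) ∈ A ⊔ B := by
  rw [← Subgroup.subgroupOf_sup hA hB, mem_subgroupOf]

/-- The prime hypothesis (4.2). -/
theorem hyp_of_typeP (hodd : Odd (Nat.card G)) (hP : Cfsg.IsTypePWith M W₁ U W₂) :
    Hyp (⁅M, M⁆.subgroupOf M) (W₁.subgroupOf M) (W₂.subgroupOf M) where
  normal := (normal_subgroupOf_iff_le_normalizer (TypeP.derived_le M)).2
    (TypeP.le_normalizer_derived M)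
  inf_eq := by
    ext x
    rw [mem_inf, mem_subgroupOf, mem_subgroupOf, ← mem_inf, hP.W₁_compl.2.2.1, mem_bot, mem_bot,
      OneMemClass.coe_eq_one]
  sup_eq := by
    rw [eq_top_iff]
    intro x _
    rw [mem_subgroupOf_sup (TypeP.derived_le M) (TypeP.W₁_le hP)]
    obtain ⟨a, ha, b, hb, e⟩ := hP.W₁_compl.2.2.2 x x.2
    rw [e]
    exact mul_mem (mem_sup_left ha) (mem_sup_right hb)
  ne_bot₁ := fun e => hP.W₁_ne (by
    rw [← map_subgroupOf_eq_of_le (TypeP.W₁_le hP), e, Subgroup.map_bot])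
  cyclic₁ :=
    haveI := hP.W₁_cyclic
    isCyclic_of_injective (subgroupOfEquivOfLe (TypeP.W₁_le hP)).toMonoidHom
      (MulEquiv.injective _)
  hall := by
    have e : Nat.card (W₁.subgroupOf M) = Nat.card W₁ :=
      Nat.card_congr (subgroupOfEquivOfLe (TypeP.W₁_le hP)).toEquiv
    rw [e]
    exact hP.W₁_hall
  ne_bot₂ := fun e => hP.selfNormalizing.2.1 (by
    rw [← map_subgroupOf_eq_of_le (TypeP.W₂_le hP), e, Subgroup.map_bot])
  cyclic₂ := by
    haveI := hP.selfNormalizing.2.2.2.2.1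
    exact isCyclic_of_injective
      ((inclusion (le_sup_right : W₂ ≤ W₁ ⊔ W₂)).comp (subgroupOfEquivOfLe (TypeP.W₂_le hP)).toMonoidHom)
      ((inclusion_injective (le_sup_right : W₂ ≤ W₁ ⊔ W₂)).comp (MulEquiv.injective _))
  le := fun x hx => (TypeP.core_le_derived hP) (TypeP.W₂_le_core hP hx)
  centralizer_eq := by
    intro x hx hx1
    rw [mem_subgroupOf] at hx
    have h := hP.W₂_centralizer x hx fun e => hx1 (Subtype.ext e)
    ext y
    rw [mem_inf, mem_subgroupOf, mem_subgroupOf, mem_centralizer_singleton_iff, ← h, mem_inf,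
      mem_centralizer_singleton_iff]
    exact and_congr_right fun _ => Subtype.ext_iff
  odd := by
    refine Odd.of_dvd_nat hodd ((card_dvd_of_injective (M.subtype.comp (Subgroup.subtype _)) ?_))
    exact M.subtype_injective.comp (Subgroup.subtype_injective _)

/-- The hypothesis (4.6) for `A₀(M)`. -/
theorem dadeHyp_of_typeP (hodd : Odd (Nat.card G)) (hP : Cfsg.IsTypePWith M W₁ U W₂)
    (hD : Cfsg.DadeHypothesis (setA0 M) M (Cfsg.supportR M)) :
    DadeHyp (⁅M, M⁆.subgroupOf M) (W₁.subgroupOf M) (W₂.subgroupOf M) (setA0 M)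
      (Cfsg.supportR M) where
  prime := hyp_of_typeP hodd hP
  selfNorm := by
    rw [map_subgroupOf_eq_of_le (TypeP.W₁_le hP), map_subgroupOf_eq_of_le (TypeP.W₂_le hP)]
    exact hP.selfNormalizing
  dade := hD
  V_subset := by
    intro w hw h1 h2
    rw [mem_subgroupOf] at h1 h2
    refine Or.inr ⟨fun hI => BG16.typeI_not_typeP hI ⟨W₁, U, W₂, hP⟩, W₁, U, W₂, hP, 1, one_mem _,
      w, (mem_subgroupOf_sup (TypeP.W₁_le hP) (TypeP.W₂_le hP)).1 hw, h1, h2, ?_⟩
    rw [one_mul, inv_one, mul_one]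

/-- The support hypothesis with `N = M_s`. -/
theorem suppHyp_of_typeP (hP : Cfsg.IsTypePWith M W₁ U W₂) :
    SuppHyp (⁅M, M⁆.subgroupOf M) (W₂.subgroupOf M) ((Cfsg.typeCore M).subgroupOf M)
      (setA0 M) where
  le := by
    intro x hx
    rw [mem_subgroupOf] at hx ⊢
    rw [Cfsg.typeCore] at hx
    split at hx
    · exact hx
    · exact TypeP.core_le_derived hP hx
  normal := (normal_subgroupOf_iff_le_normalizer (PF8.typeCore_le M)).2
    (PF8.le_normalizer_typeCore M)
  W₂_le := by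
    intro x hx
    rw [mem_subgroupOf] at hx ⊢
    rw [Cfsg.typeCore]
    split
    · exact TypeP.core_le_derived hP (TypeP.W₂_le_core hP hx)
    · exact TypeP.W₂_le_core hP hx
  mem := by
    intro k hk hk1 n hn hn1 hc
    rw [mem_subgroupOf] at hk hn
    refine Or.inl ?_
    rw [setA, if_neg fun hI => BG16.typeI_not_typeP hI ⟨W₁, U, W₂, hP⟩]
    exact ⟨hk, fun e => hk1 (Subtype.ext e), n, hn, fun e => hn1 (Subtype.ext e),
      congrArg Subtype.val hc⟩

end Cfsg.Agent.OddOrder.PF4
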