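import Cfsg.Agent.OddOrder.PF4.Table

/-!
# Which of the `μ_ω` are trivial on a normal subgroup of `K`

For `A ≤ K` normal in `L = K W₁`, the character `μ_ω` is trivial on `A` iff `ω` is trivial on
`W ⊓ A`.  (Second orthogonality at a nontrivial element of `W₁` in `L / A`.)
-/

set_option autoImplicit false
set_option linter.style.haveILetI false

namespace Cfsg.Agent.OddOrder.PF4

open scoped ComplexConjugate
open Cfsg.Agent H43 Finset

universe u

/-- The linear characters of a cyclic group trivial on a subgroup are as many as its index. -/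
theorem card_linear_trivial_on {W : Type u} [Group W] [Finite W] [IsCyclic W] (S : Subgroup W) :
    Nat.card {φ : W →* ℂˣ // ∀ y ∈ S, φ y = 1} = S.index := by
  letI : CommGroup W := IsCyclic.commGroup
  haveI : IsCyclic (W ⧸ S) := isCyclic_of_surjective (QuotientGroup.mk' S)
    (QuotientGroup.mk'_surjective S)
  rw [Subgroup.index, ← PF3.card_linear (W ⧸ S) inferInstance]
  exact Nat.card_congr
    { toFun := fun φ => QuotientGroup.lift S φ.1 fun y hy => φ.2 y hy
      invFun := fun ψ => ⟨ψ.comp (QuotientGroup.mk' S), fun y hy => by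
        rw [MonoidHom.comp_apply, QuotientGroup.mk'_apply, (QuotientGroup.eq_one_iff y).2 hy,
          map_one]⟩
      left_inv := fun φ => by ext w; rfl
      right_inv := fun ψ => by ext w; rfl }

variable {L : Type u} [Group L] [Fintype L] {K W₁ W₂ : Subgroup L}

namespace Hyp

variable (h : Hyp K W₁ W₂)

include h

theorem mem_W₂_of_mem_K (w : ↥(W₁ ⊔ W₂)) (hw : (w : L) ∈ K) : (w : L) ∈ W₂ := by
  obtain ⟨a, b, ha, hb, rfl⟩ := exists_mul_decomp h.pair w
  have haK : (a : L) ∈ K := by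
    have := K.mul_mem hw (K.inv_mem (h.le hb))
    simpa using this
  have : (a : L) = 1 := h.mem_inf_iff haK ha
  simpa [this] using hb

open scoped Classical in
/-- `μ_ω` is trivial on a normal subgroup `A ≤ K` iff `ω` is trivial on `W ⊓ A`. -/
theorem mu_ker_iff (A : Subgroup L) [A.Normal] (hA : A ≤ K) (ω : ↥(W₁ ⊔ W₂) →* ℂˣ) :
    (∀ a ∈ A, h.mu ω a = h.mu ω 1) ↔ ∀ w : ↥(W₁ ⊔ W₂), (w : L) ∈ A → ω w = 1 := by
  obtain ⟨x, hx, hx2⟩ := h.exists_mem_one
  haveI := h.pair.2.2.2.2.1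
  have fwd : ∀ ω : ↥(W₁ ⊔ W₂) →* ℂˣ, (∀ a ∈ A, h.mu ω a = h.mu ω 1) →
      ∀ w : ↥(W₁ ⊔ W₂), (w : L) ∈ A → ω w = 1 := by
    intro ω hω w hw
    have hw2 := h.mem_W₂_of_mem_K w (hA hw)
    have e := CharBasic.IsChar.eq_one_mul (CharBasic.IsIrr.isCharacter (h.mu_irr ω)) (hω w hw) (x : L)
    have hwx : ((w * x : ↥(W₁ ⊔ W₂)) : L) ∉ W₂ := fun hb => hx2 (by
      have := W₂.mul_mem (W₂.inv_mem hw2) hb
      simpa using this)
    rw [← Subgroup.coe_mul, h.mu_apply ω _ hwx, h.mu_apply ω x hx2, map_mul, Units.val_mul] at e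
    refine Units.ext ?_
    have h2 := mul_left_cancel₀ (h.delta_ne_zero ω) e
    exact mul_right_cancel₀ (Units.ne_zero (ω x)) (h2.trans (one_mul _).symm)
  refine ⟨fwd ω, ?_⟩
  set S : Finset (↥(W₁ ⊔ W₂) →* ℂˣ) :=
    univ.filter fun ω => ∀ a ∈ A, h.mu ω a = h.mu ω 1 with hS
  set T : Finset (↥(W₁ ⊔ W₂) →* ℂˣ) :=
    univ.filter fun ω => ∀ w : ↥(W₁ ⊔ W₂), (w : L) ∈ A → ω w = 1 with hT
  have hsub : S ⊆ T := fun ω hω => mem_filter.2 ⟨mem_univ _, fwd ω (mem_filter.1 hω).2⟩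
  suffices hcard : T.card ≤ S.card by
    intro hω
    have hmem : ω ∈ S := by
      rw [eq_of_subset_of_card_le hsub hcard]
      exact mem_filter.2 ⟨mem_univ _, hω⟩
    exact (mem_filter.1 hmem).2
  -- the linear characters trivial on `W ⊓ A` are as many as the image of `W`
  have hTcard : T.card = (A.subgroupOf (W₁ ⊔ W₂)).index := by
    rw [← card_linear_trivial_on (A.subgroupOf (W₁ ⊔ W₂)), Nat.card_eq_fintype_card,
      Fintype.card_subtype]
    rfl
  let π : L →* L ⧸ A := QuotientGroup.mk' A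
  have hlow : T.card ≤ Nat.card (Subgroup.centralizer ({π x} : Set (L ⧸ A))) := by
    rw [hTcard, Subgroup.index]
    let ι : ↥(W₁ ⊔ W₂) →* L ⧸ A := π.comp (W₁ ⊔ W₂).subtype
    have hker : ι.ker = A.subgroupOf (W₁ ⊔ W₂) := by
      ext w
      simp [ι, π, Subgroup.mem_subgroupOf]
    rw [← hker, Nat.card_congr (QuotientGroup.quotientKerEquivRange ι).toEquiv]
    refine Subgroup.card_le_of_le ?_
    rintro _ ⟨w, rfl⟩
    rw [Subgroup.mem_centralizer_singleton_iff]
    have hc : w * x = x * w := (IsCyclic.commGroup (α := ↥(W₁ ⊔ W₂))).mul_comm w x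
    show π (w : L) * π (x : L) = π (x : L) * π (w : L)
    rw [← map_mul, ← map_mul, ← Subgroup.coe_mul, hc]
    rfl
  refine hlow.trans ?_
  haveI : Fintype (L ⧸ A) := Fintype.ofFinite _
  let infl : Cfsg.IrrCharacter (L ⧸ A) → L → ℂ := fun χ g => (χ : L ⧸ A → ℂ) (π g)
  have hirr : ∀ χ, Cfsg.IsIrrCharacter L (infl χ) := fun χ =>
    CharInduce.IsIrr.comp χ.2 π (QuotientGroup.mk'_surjective A)
  set P := univ.filter fun χ : Cfsg.IrrCharacter (L ⧸ A) => (χ : L ⧸ A → ℂ) (π x) ≠ 0 with hP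
  have hmu : ∀ χ ∈ P, ∃ ω, infl χ = h.mu ω := by
    intro χ hχ
    by_contra hne
    push Not at hne
    exact (mem_filter.1 hχ).2 (h.other_eq_zero (hirr χ) hne x hx2)
  choose f hf using hmu
  have hterm : ∀ χ ∈ P, (χ : L ⧸ A → ℂ) (π x) * conj ((χ : L ⧸ A → ℂ) (π x)) = 1 := by
    intro χ hχ
    show infl χ x * conj (infl χ x) = 1
    rw [hf χ hχ, h.mu_apply _ x hx2, map_mul, mul_mul_mul_comm, linear_conj]
    rcases h.delta_eq (f χ hχ) with e | e <;> simp [e]
  have hsum := CharBasic.second_orthogonality_self (G := L ⧸ A) (π x)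
  rw [← sum_filter_of_ne (s := univ) (p := fun χ : Cfsg.IrrCharacter (L ⧸ A) =>
      (χ : L ⧸ A → ℂ) (π x) ≠ 0) (fun χ _ hne h0 => hne (by rw [h0, zero_mul])),
    sum_congr rfl hterm, sum_const, nsmul_eq_mul, mul_one] at hsum
  rw [← Nat.cast_injective (R := ℂ) hsum]
  refine card_le_card_of_injOn (fun χ => if hχ : χ ∈ P then f χ hχ else 1) (fun χ hχ => ?_)
    (fun χ hχ χ' hχ' e => ?_)
  · simp only [mem_coe] at hχ ⊢
    rw [dif_pos hχ]
    refine mem_filter.2 ⟨mem_univ _, fun a ha => ?_⟩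
    rw [← hf χ hχ]
    show (χ : L ⧸ A → ℂ) (π a) = (χ : L ⧸ A → ℂ) (π 1)
    rw [show π a = 1 from (QuotientGroup.eq_one_iff a).2 ha, map_one]
  · simp only [mem_coe] at hχ hχ'
    simp only [dif_pos hχ, dif_pos hχ'] at e
    refine Subtype.ext (funext fun q => ?_)
    obtain ⟨g, rfl⟩ := QuotientGroup.mk'_surjective A q
    show infl χ g = infl χ' g
    rw [hf χ hχ, hf χ' hχ', e]

end Hyp

end Cfsg.Agent.OddOrder.PF4
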