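import Cfsg.Agent.H43.CyclicTI
import Cfsg.Agent.OddOrder.PF1.Clifford
import Cfsg.Agent.OddOrder.PF3.Family
import Cfsg.Agent.CharInduce.Twist
import Cfsg.Agent.CharInduce.Isometry
import Cfsg.Agent.Coprime.Action
import Cfsg.Agent.S1509
import Cfsg.Agent.S1510
import Cfsg.Agent.S1512

/-!
# Peterfalvi (4.3), (4.5): the group `K W₁` with `C_K(x) = W₂`
-/

set_option autoImplicit false

namespace Cfsg.Agent.OddOrder.PF4

open scoped ComplexConjugate
open Cfsg.Agent H43 Finset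

universe u

variable {L : Type u} [Group L]

/-- The hypothesis of Peterfalvi (4.2). -/
structure Hyp (K W₁ W₂ : Subgroup L) : Prop where
  normal : K.Normal
  inf_eq : K ⊓ W₁ = ⊥
  sup_eq : K ⊔ W₁ = ⊤
  ne_bot₁ : W₁ ≠ ⊥
  cyclic₁ : IsCyclic W₁
  hall : Nat.Coprime (Nat.card W₁) W₁.index
  ne_bot₂ : W₂ ≠ ⊥
  cyclic₂ : IsCyclic W₂
  le : W₂ ≤ K
  centralizer_eq : ∀ x ∈ W₁, x ≠ 1 → K ⊓ Subgroup.centralizer ({x} : Set L) = W₂
  odd : Odd (Nat.card ↥(W₁ ⊔ W₂))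

variable [Fintype L] {K W₁ W₂ : Subgroup L}

theorem Hyp.pair (h : Hyp K W₁ W₂) : Cfsg.IsSelfNormalizingCyclic W₁ W₂ :=
  haveI := h.normal
  S1510.result K W₁ W₂ h.inf_eq h.sup_eq h.ne_bot₁ h.cyclic₁ h.hall h.ne_bot₂ h.cyclic₂ h.le
    h.centralizer_eq h.odd

theorem Hyp.isComplement (h : Hyp K W₁ W₂) : Subgroup.IsComplement' K W₁ := by
  haveI := h.normal
  refine Subgroup.isComplement'_of_disjoint_and_mul_eq_univ (disjoint_iff.2 h.inf_eq) ?_
  rw [← Subgroup.normal_mul, h.sup_eq, Subgroup.coe_top] -- product form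

theorem Hyp.index_eq (h : Hyp K W₁ W₂) : K.index = Nat.card W₁ := h.isComplement.symm.index_eq_card

theorem Hyp.coprime (h : Hyp K W₁ W₂) : Nat.Coprime (Nat.card W₁) (Nat.card K) := by
  have := h.hall
  rwa [h.isComplement.index_eq_card] at this

theorem Hyp.exists_factor_mem (h : Hyp K W₁ W₂) (g : L) :
    ∃ k ∈ K, ∃ w ∈ W₁, g = k * w := by
  haveI := h.normal
  obtain ⟨k, hk, w, hw, e⟩ := Subgroup.mem_sup_of_normal_left.1
    (show g ∈ K ⊔ W₁ by rw [h.sup_eq]; exact Subgroup.mem_top _)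
  exact ⟨k, hk, w, hw, e.symm⟩

theorem Hyp.mem_inf_iff (h : Hyp K W₁ W₂) {x : L} (hx : x ∈ K) (hx' : x ∈ W₁) : x = 1 :=
  Subgroup.mem_bot.1 (h.inf_eq ▸ Subgroup.mem_inf.2 ⟨hx, hx'⟩)

/-- `W ∖ W₂` is a trivial-intersection set with normaliser `W`. -/
theorem Hyp.mem_of_conj_mem (h : Hyp K W₁ W₂) {g : L} {x : ↥(W₁ ⊔ W₂)} (hx : (x : L) ∉ W₂)
    (hgx : g * x * g⁻¹ ∈ W₁ ⊔ W₂) : g ∈ W₁ ⊔ W₂ := by
  haveI := h.normal
  have hW := h.pair
  obtain ⟨k, hk, w, hw, rfl⟩ := h.exists_factor_mem g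
  obtain ⟨a, b, ha, hb, rfl⟩ := exists_mul_decomp hW x
  have hcomm : ∀ p ∈ W₁ ⊔ W₂, ∀ q ∈ W₁ ⊔ W₂, p * q = q * p := fun p hp q hq =>
    mem_normalizer_sup hW.2.2.2.2.1 hp hq
  set y : L := (a : L) * b with hy
  have hwy : w * y * w⁻¹ = y := by
    rw [hcomm w (Subgroup.mem_sup_left hw) y (mul_mem a.2 b.2), mul_inv_cancel_right]
  have hkx : k * y * k⁻¹ ∈ W₁ ⊔ W₂ := by
    have : k * w * y * (k * w)⁻¹ = k * (w * y * w⁻¹) * k⁻¹ := by group
    rw [← hwy, ← this]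
    simpa [hy, Subgroup.coe_mul] using hgx
  obtain ⟨a', b', ha', hb', he⟩ := exists_mul_decomp hW ⟨_, hkx⟩
  have he' : k * y * k⁻¹ = a' * b' := congrArg Subtype.val he
  -- the `W₁`-parts agree
  have haa : (a' : L) = a := by
    refine (inv_mul_eq_one.1 (h.mem_inf_iff (x := (a' : L)⁻¹ * a) ?_ ?_))
    · rw [← QuotientGroup.eq]
      have e1 : ((k * y * k⁻¹ : L) : L ⧸ K) = ((a' * b' : L) : L ⧸ K) := by rw [he']
      simp only [QuotientGroup.mk_mul, QuotientGroup.mk_inv, (QuotientGroup.eq_one_iff k).2 hk,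
        (QuotientGroup.eq_one_iff (b : L)).2 (h.le hb), (QuotientGroup.eq_one_iff (b' : L)).2 (h.le hb'),
        hy, one_mul, mul_one, inv_one] at e1
      exact e1.symm
    · exact mul_mem (inv_mem ha') ha
  -- project onto `W₁` by a power
  obtain ⟨m, hm1, hm0⟩ := Nat.chineseRemainder h.coprime 1 0
  have hproj : ∀ p q : L, p ∈ W₁ → q ∈ W₂ → (p * q) ^ m = p := by
    intro p q hp hq
    have hc : Commute p q := hW.2.2.2.1 p hp q hq
    rw [hc.mul_pow]
    have e1 : p ^ m = p := by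
      conv_rhs => rw [← pow_one p]
      exact pow_eq_pow_iff_modEq.2 (hm1.of_dvd (by
        simpa [Subgroup.orderOf_mk] using orderOf_dvd_natCard (⟨p, hp⟩ : W₁)))
    have e2 : q ^ m = 1 := by
      rw [← orderOf_dvd_iff_pow_eq_one]
      exact (show orderOf q ∣ Nat.card K by
        simpa [Subgroup.orderOf_mk] using orderOf_dvd_natCard (⟨q, h.le hq⟩ : K)).trans
        (Nat.modEq_zero_iff_dvd.1 hm0)
    rw [e1, e2, mul_one]
  have hka : k * a * k⁻¹ = a := by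
    have := congrArg (· ^ m) he'
    simp only [conj_pow, hy, hproj _ _ ha hb, hproj _ _ ha' hb'] at this
    rw [this, haa]
  have ha1 : (a : L) ≠ 1 := fun e => hx (by simpa [e] using hb)
  have hkW₂ : k ∈ W₂ := by
    rw [← h.centralizer_eq a ha ha1]
    exact ⟨hk, Subgroup.mem_centralizer_singleton_iff.2 (mul_inv_eq_iff_eq_mul.1 hka)⟩
  exact mul_mem (Subgroup.mem_sup_right hkW₂) (Subgroup.mem_sup_left hw)

theorem Hyp.isClassFunction (h : Hyp K W₁ W₂) (f : ↥(W₁ ⊔ W₂) → ℂ) :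
    Cfsg.IsClassFunction ↥(W₁ ⊔ W₂) f := by
  intro g x
  let _ : CommGroup ↥(W₁ ⊔ W₂) := h.pair.2.2.2.2.1.commGroup
  rw [mul_comm x g, mul_inv_cancel_right]

theorem Hyp.indFun_apply (h : Hyp K W₁ W₂) {f : ↥(W₁ ⊔ W₂) → ℂ}
    (hf : ∀ w : ↥(W₁ ⊔ W₂), (w : L) ∈ W₂ → f w = 0) (v : ↥(W₁ ⊔ W₂)) (hv : (v : L) ∉ W₂) :
    Cfsg.indFun (W₁ ⊔ W₂) f v = f v := by
  classical
  have key : ∀ x : L, Cfsg.extendByZero (W₁ ⊔ W₂) f (x⁻¹ * v * x)
      = if x ∈ W₁ ⊔ W₂ then f v else 0 := by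
    intro x
    split_ifs with hx
    · have := CharInduce.extendByZero_conj (h.isClassFunction f) (inv_mem hx) (v : L)
      rw [inv_inv, CharInduce.extendByZero_coe] at this
      exact this
    · by_cases hy : x⁻¹ * (v : L) * x ∈ W₁ ⊔ W₂
      · exact absurd (by simpa using inv_mem (h.mem_of_conj_mem (g := x⁻¹) hv (by simpa using hy))) hx
      · rw [CharInduce.extendByZero_of_not_mem _ hy]
  simp only [CharInduce.indFun_apply, key]
  rw [← sum_filter, sum_const, nsmul_eq_mul, ← Fintype.card_subtype, ← Nat.card_eq_fintype_card,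
    ← mul_assoc, inv_mul_cancel₀ (CharInduce.card_ne_zero_complex _), one_mul]

theorem Hyp.classInner_indFun (h : Hyp K W₁ W₂) [Fintype ↥(W₁ ⊔ W₂)] {f f' : ↥(W₁ ⊔ W₂) → ℂ}
    (hf : ∀ w : ↥(W₁ ⊔ W₂), (w : L) ∈ W₂ → f w = 0)
    (hf' : ∀ w : ↥(W₁ ⊔ W₂), (w : L) ∈ W₂ → f' w = 0) :
    Cfsg.classInner (Cfsg.indFun (W₁ ⊔ W₂) f) (Cfsg.indFun (W₁ ⊔ W₂) f') = Cfsg.classInner f f' := by
  rw [CharInduce.classInner_indFun_left _ _ _ (CharInduce.isClassFunction_indFun _ f')]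
  simp only [CharBasic.classInner_def]
  congr 1
  refine sum_congr rfl fun w _ => ?_
  by_cases hw : (w : L) ∈ W₂
  · rw [hf w hw, zero_mul, zero_mul]
  · rw [h.indFun_apply hf' w hw]

/-- A function on `W` whose coefficients are constant along the characters agreeing on `W₂`
vanishes outside `W₂`. -/
theorem Hyp.eq_zero_off (h : Hyp K W₁ W₂) [Fintype ↥(W₁ ⊔ W₂)] (f : ↥(W₁ ⊔ W₂) → ℂ)
    (hf : ∀ η φ : ↥(W₁ ⊔ W₂) →* ℂˣ, TrivR φ →
      Cfsg.classInner f (fun w => ((φ * η) w : ℂ)) = Cfsg.classInner f fun w => (η w : ℂ))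
    (v : ↥(W₁ ⊔ W₂)) (hv : (v : L) ∉ W₂) : f v = 0 := by
  haveI := h.pair.2.2.2.2.1
  obtain ⟨φ, hφ, hφv⟩ := exists_linear_ne_one (W₂.subgroupOf (W₁ ⊔ W₂)) (x := v)
    (fun hc => hv (Subgroup.mem_subgroupOf.1 hc))
  have hφR : TrivR φ := fun w hw => hφ w (Subgroup.mem_subgroupOf.2 hw)
  have heq : (fun w => f w * conj (φ w : ℂ)) = f := by
    refine CharBasic.classFunction_ext (h.isClassFunction _) (h.isClassFunction _) fun χ => ?_
    let _ : CommGroup ↥(W₁ ⊔ W₂) := h.pair.2.2.2.2.1.commGroup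
    obtain ⟨l, hl⟩ := CharInduce.IsChar.exists_hom_of_degree_one (CharBasic.IsIrr.isCharacter χ.2)
      (CharInduce.IsIrr.degree_one_of_comm (fun a b => mul_comm a b) χ.2)
    rw [show (χ : ↥(W₁ ⊔ W₂) → ℂ) = fun w => (l w : ℂ) from funext hl, ← hf l φ hφR]
    simp only [CharBasic.classInner_def, MonoidHom.mul_apply, Units.val_mul, map_mul]
    congr 1
    exact sum_congr rfl fun w _ => by ring
  have h1 := congrFun heq v
  have h2 : f v * (conj (φ v : ℂ) - 1) = 0 := by rw [mul_sub, mul_one, sub_eq_zero]; exact h1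
  refine (mul_eq_zero.1 h2).resolve_right (sub_ne_zero.2 fun e => hφv (Units.ext ?_))
  simpa using congrArg conj e

open scoped Classical in
/-- Peterfalvi (4.3). -/
theorem Hyp.exists_mu (h : Hyp K W₁ W₂) :
    ∃ (μ : (↥(W₁ ⊔ W₂) →* ℂˣ) → (L → ℂ)) (δ : (↥(W₁ ⊔ W₂) →* ℂˣ) → ℂ),
      Function.Injective μ ∧ (∀ ω, Cfsg.IsIrrCharacter L (μ ω)) ∧ (∀ ω, δ ω = 1 ∨ δ ω = -1) ∧
      (∀ ω ω' : ↥(W₁ ⊔ W₂) →* ℂˣ, (∀ w : ↥(W₁ ⊔ W₂), (w : L) ∈ W₂ → ω w = ω' w) →
        δ ω = δ ω' ∧ Cfsg.indFun (W₁ ⊔ W₂) (fun w => (ω w : ℂ) - (ω' w : ℂ)) = δ ω • (μ ω - μ ω')) ∧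
      (∀ ω, ∀ w : ↥(W₁ ⊔ W₂), (w : L) ∉ W₂ → μ ω w = δ ω * (ω w : ℂ)) ∧
      (∀ θ : L → ℂ, Cfsg.IsIrrCharacter L θ → (∀ ω, θ ≠ μ ω) →
        ∀ w : ↥(W₁ ⊔ W₂), (w : L) ∉ W₂ → θ w = 0) ∧
      (∀ ω, ∃ n : ℤ, μ ω 1 - δ ω = n * (Nat.card W₁ : ℂ)) := by
  haveI := h.normal
  haveI : Fintype ↥(W₁ ⊔ W₂) := Fintype.ofFinite _
  have hW := h.pair
  let R := {φ : ↥(W₁ ⊔ W₂) →* ℂˣ // TrivR φ}
  let T := {ψ : ↥(W₁ ⊔ W₂) →* ℂˣ // TrivL ψ}
  let D : R × T → (↥(W₁ ⊔ W₂) →* ℂˣ) := fun p => p.1.1 * p.2.1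
  have hD : Function.Bijective D := by
    refine ⟨fun p q e => ?_, fun ω => ?_⟩
    · obtain ⟨e1, e2⟩ := factor_unique hW p.1.2 q.1.2 p.2.2 q.2.2 e
      exact Prod.ext (Subtype.ext e1) (Subtype.ext e2)
    · obtain ⟨φ, ψ, hφ, hψ, rfl⟩ := exists_factor hW ω
      exact ⟨(⟨φ, hφ⟩, ⟨ψ, hψ⟩), rfl⟩
  let one : R := ⟨1, trivR_one⟩
  let lin : (↥(W₁ ⊔ W₂) →* ℂˣ) → (↥(W₁ ⊔ W₂) → ℂ) := fun ω w => (ω w : ℂ)
  let f : R → T → ↥(W₁ ⊔ W₂) → ℂ := fun r t => lin (D (r, t)) - lin (D (one, t))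
  have hf0 : ∀ r t, ∀ w : ↥(W₁ ⊔ W₂), (w : L) ∈ W₂ → f r t w = 0 := fun r t w hw => by
    simp [f, lin, D, one, r.2 w hw]
  have hgram : ∀ r t r' t', Cfsg.classInner (Cfsg.indFun (W₁ ⊔ W₂) (f r t))
      (Cfsg.indFun (W₁ ⊔ W₂) (f r' t')) =
      (if (r, t) = (r', t') then 1 else 0) - (if (r, t) = (one, t') then 1 else 0) -
        ((if (one, t) = (r', t') then 1 else 0) - (if (one, t) = (one, t') then 1 else 0)) := by
    intro r t r' t'
    rw [h.classInner_indFun (hf0 r t) (hf0 r' t')]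
    simp only [f, CharBasic.classInner_sub_left, CharBasic.classInner_sub_right, lin, linear_orth,
      hD.1.eq_iff]
    ring
  have h1 : ∀ r t, Cfsg.indFun (W₁ ⊔ W₂) (f r t) 1 = 0 := fun r t => by
    simp [CharInduce.indFun_one, f, lin]
  let E := Fintype.equivFin R
  have hfam : ∀ t : T, ∃ ε : ℂ, (ε = 1 ∨ ε = -1) ∧ ∃ μ : R → (L → ℂ),
      (∀ r, Cfsg.IsIrrCharacter L (μ r)) ∧ Function.Injective μ ∧
        ∀ r, Cfsg.indFun (W₁ ⊔ W₂) (f r t) = ε • (μ r - μ one) := by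
    intro t
    obtain ⟨ε, hε, μ, hμ, hinj, he⟩ := CharInduce.Isometry.exists_signed_family (Fintype.card R)
      (E one) (fun i => Cfsg.indFun (W₁ ⊔ W₂) (f (E.symm i) t))
      (by simp [f, CharInduce.indFun_zero])
      (fun i => CharInduce.IsGen.ind _ ⟨lin (D (E.symm i, t)), lin (D (one, t)),
        CharInduce.isCharacter_hom _, CharInduce.isCharacter_hom _, rfl⟩)
      (fun i => h1 _ _) (fun i j hi hj => by
        have hi' : E.symm i ≠ one := fun e => hi (by rw [← e, Equiv.apply_symm_apply])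
        have hj' : E.symm j ≠ one := fun e => hj (by rw [← e, Equiv.apply_symm_apply])
        rw [hgram]
        by_cases hij : i = j
        · subst hij; simp [hi', Ne.symm hi']; norm_num
        · simp [hi', Ne.symm hj', hij, E.symm.injective.ne hij])
    refine ⟨ε, hε, μ ∘ E, fun r => hμ _, hinj.comp E.injective, fun r => ?_⟩
    simpa using he (E r)
  choose ε hε m hm hminj hmeq using hfam
  have hεsq : ∀ t, ε t * ε t = 1 := fun t => by rcases hε t with e | e <;> simp [e]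
  have hεconj : ∀ t, conj (ε t) = ε t := fun t => by rcases hε t with e | e <;> simp [e]
  have hdeg : ∀ t r, m t r 1 = m t one 1 := by
    intro t r
    have h' := congrFun (hmeq t r) 1
    rw [h1, Pi.smul_apply, Pi.sub_apply, smul_eq_mul, eq_comm, mul_eq_zero] at h'
    exact sub_eq_zero.1 (h'.resolve_left (fun e => by simpa [e] using hεsq t))
  obtain ⟨r₁, hr₁⟩ : ∃ r : R, r ≠ one := by
    by_contra hc
    push Not at hc
    haveI : Unique R := ⟨⟨one⟩, hc⟩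
    have h1' := (PF3.card_trivR_trivL hW).1
    rw [Nat.card_unique] at h1'
    exact h.ne_bot₁ (Subgroup.card_eq_one.1 h1'.symm)
  have hdisj : ∀ t t' r r', t ≠ t' → m t r ≠ m t' r' := by
    intro t t' r r' htt e
    have hkey : ∀ a b, a ≠ one → b ≠ one →
        Cfsg.classInner (m t a) (m t' b) = 0 ∧ Cfsg.classInner (m t a) (m t' one) = 0 ∧
          Cfsg.classInner (m t one) (m t' b) = 0 ∧ Cfsg.classInner (m t one) (m t' one) = 0 := by
      intro a b ha hb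
      refine S1509.result (m t a) (m t one) (m t' b) (m t' one) (Or.inl (hm _ _)) (Or.inl (hm _ _))
        (Or.inl (hm _ _)) (Or.inl (hm _ _)) 1 1 one_ne_zero one_ne_zero
        (CharBasic.classInner_irr_of_ne (hm _ _) (hm _ _) ((hminj t).ne ha))
        (CharBasic.classInner_irr_of_ne (hm _ _) (hm _ _) ((hminj t').ne hb)) ?_ (hdeg t a)
        (by simp [hdeg t' b])
      have hg := hgram a t b t'
      rw [hmeq, hmeq, CharBasic.classInner_smul_left, CharBasic.classInner_smul_right,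
        if_neg (by simp [htt]), if_neg (by simp [htt]), if_neg (by simp [htt]),
        if_neg (by simp [htt]), hεconj] at hg
      simp only [sub_self, mul_eq_zero] at hg
      simpa using (hg.resolve_left (fun e => by simpa [e] using hεsq t)).resolve_left
        (fun e => by simpa [e] using hεsq t')
    have hall : Cfsg.classInner (m t r) (m t' r') = 0 := by
      by_cases hr : r = one <;> by_cases hr' : r' = one
      · exact hr ▸ hr' ▸ (hkey r₁ r₁ hr₁ hr₁).2.2.2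
      · exact hr ▸ (hkey r₁ r' hr₁ hr').2.2.1
      · exact hr' ▸ (hkey r r₁ hr hr₁).2.1
      · exact (hkey r r' hr hr').1
    rw [e, CharBasic.classInner_irr_self (hm t' r')] at hall
    exact one_ne_zero hall
  let EE := Equiv.ofBijective D hD
  let μ : (↥(W₁ ⊔ W₂) →* ℂˣ) → (L → ℂ) := fun ω => m (EE.symm ω).2 (EE.symm ω).1
  let δ : (↥(W₁ ⊔ W₂) →* ℂˣ) → ℂ := fun ω => ε (EE.symm ω).2
  have hμD : ∀ r t, μ (D (r, t)) = m t r := fun r t => by
    simp only [μ, show EE.symm (D (r, t)) = (r, t) from EE.symm_apply_apply _]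
  have hδD : ∀ r t, δ (D (r, t)) = ε t := fun r t => by
    simp only [δ, show EE.symm (D (r, t)) = (r, t) from EE.symm_apply_apply _]
  have hμinj : Function.Injective μ := by
    intro ω ω' e
    obtain ⟨⟨r, t⟩, rfl⟩ := hD.2 ω
    obtain ⟨⟨r', t'⟩, rfl⟩ := hD.2 ω'
    rw [hμD, hμD] at e
    obtain rfl : t = t' := by_contra fun hne => hdisj t t' r r' hne e
    rw [hminj t e]
  have hsame : ∀ ω ω' : ↥(W₁ ⊔ W₂) →* ℂˣ, (∀ w : ↥(W₁ ⊔ W₂), (w : L) ∈ W₂ → ω w = ω' w) →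
      δ ω = δ ω' ∧ Cfsg.indFun (W₁ ⊔ W₂) (lin ω - lin ω') = δ ω • (μ ω - μ ω') := by
    intro ω ω' hag
    obtain ⟨⟨r, t⟩, rfl⟩ := hD.2 ω
    obtain ⟨⟨r', t'⟩, rfl⟩ := hD.2 ω'
    obtain rfl : t = t' := by
      refine Subtype.ext (linear_ext hW (fun w hw => by rw [t.2 w hw, t'.2 w hw]) fun w hw => ?_)
      have := hag w hw
      simpa [D, r.2 w hw, r'.2 w hw] using this
    refine ⟨by rw [hδD, hδD], ?_⟩
    rw [show lin (D (r, t)) - lin (D (r', t)) = f r t - f r' t from (sub_sub_sub_cancel_right _ _ _).symm,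
      CharInduce.indFun_sub, hmeq, hmeq, hδD, hμD, hμD, ← smul_sub, sub_sub_sub_cancel_right]
  -- values outside `W₂`
  have hval : ∀ θ : L → ℂ, Cfsg.IsIrrCharacter L θ → ∀ c : ℂ, ∀ ω₀,
      (∀ η η' : ↥(W₁ ⊔ W₂) →* ℂˣ, (∀ w : ↥(W₁ ⊔ W₂), (w : L) ∈ W₂ → η w = η' w) →
        δ η * (Cfsg.classInner θ (μ η) - Cfsg.classInner θ (μ η')) =
          c * ((if ω₀ = η then 1 else 0) - (if ω₀ = η' then 1 else 0))) →
      ∀ w : ↥(W₁ ⊔ W₂), (w : L) ∉ W₂ → θ w = c * (ω₀ w : ℂ) := by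
    intro θ hθ c ω₀ hc w hw
    have hδc : ∀ η, conj (δ η) = δ η := fun η => hεconj _
    have := h.eq_zero_off ((fun w : ↥(W₁ ⊔ W₂) => θ w) - c • lin ω₀) (fun η φ hφ => ?_) w hw
    · simpa [sub_eq_zero, lin] using this
    · have hag : ∀ w : ↥(W₁ ⊔ W₂), (w : L) ∈ W₂ → (φ * η) w = η w := fun w hw => by simp [hφ w hw]
      rw [← sub_eq_zero, ← CharBasic.classInner_sub_right]
      show Cfsg.classInner ((fun w : ↥(W₁ ⊔ W₂) => θ w) - c • lin ω₀) (lin (φ * η) - lin η) = 0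
      rw [CharBasic.classInner_sub_left, ← CharInduce.classInner_indFun_right (W₁ ⊔ W₂)
        (lin (φ * η) - lin η) θ (CharBasic.IsIrr.isClassFunction hθ), (hsame _ _ hag).2,
        CharBasic.classInner_smul_right, CharBasic.classInner_sub_right, hδc, hc _ _ hag,
        CharBasic.classInner_smul_left, CharBasic.classInner_sub_right]
      simp only [lin, linear_orth]
      ring
  have heqon : ∀ ω, ∀ w : ↥(W₁ ⊔ W₂), (w : L) ∉ W₂ → μ ω w = δ ω * (ω w : ℂ) := by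
    intro ω
    refine hval (μ ω) (hm _ _) (δ ω) ω fun η η' hag => ?_
    have hμirr : ∀ a, Cfsg.IsIrrCharacter L (μ a) := fun a => hm _ _
    rw [CharBasic.classInner_irr (hμirr ω) (hμirr η), CharBasic.classInner_irr (hμirr ω) (hμirr η')]
    simp only [hμinj.eq_iff]
    by_cases e1 : ω = η <;> by_cases e2 : ω = η'
    · subst e1; subst e2; ring
    · subst e1; simp [e2]
    · subst e2; simp [e1, (hsame _ _ hag).1]
    · simp [e1, e2]
  refine ⟨μ, δ, hμinj, fun ω => hm _ _, fun ω => hε _, hsame, heqon, fun θ hθ hne w hw => ?_,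
    fun ω => ?_⟩
  · rw [hval θ hθ 0 1 (fun η η' _ => ?_) w hw, zero_mul]
    rw [CharBasic.classInner_irr_of_ne hθ (hm _ _) (hne η),
      CharBasic.classInner_irr_of_ne hθ (hm _ _) (hne η'), sub_zero, mul_zero, zero_mul]
  · haveI : Fintype W₁ := Fintype.ofFinite _
    obtain ⟨a, ha⟩ := CharBasic.classInner_isChar_nat
      (CharInduce.IsChar.res (CharBasic.IsIrr.isCharacter (hm (EE.symm ω).2 (EE.symm ω).1)) W₁)
      (CharInduce.IsChar.one (G := W₁))
    let ω₁ : W₁ →* ℂˣ := ω.comp (Subgroup.inclusion le_sup_left)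
    have hs : ∑ x : W₁, μ ω (x : L) = (a : ℂ) * (Nat.card W₁ : ℂ) := by
      rw [← ha, CharBasic.classInner_def]
      simp only [map_one, mul_one]
      field_simp [CharInduce.card_ne_zero_complex W₁]
      rfl
    have hdec : ∑ x : W₁, μ ω (x : L) = μ ω 1 - δ ω + δ ω * ∑ x : W₁, (ω₁ x : ℂ) := by
      rw [← add_sum_erase _ _ (mem_univ (1 : W₁)), ← add_sum_erase _ (fun x => (ω₁ x : ℂ))
        (mem_univ (1 : W₁)), mul_add, map_one, Units.val_one, mul_one, OneMemClass.coe_one, mul_sum,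
        ← add_assoc, sub_add_cancel]
      congr 1
      refine sum_congr rfl fun x hx => ?_
      refine heqon ω ⟨x, Subgroup.mem_sup_left x.2⟩ fun hx2 => ?_
      exact (mem_erase.1 hx).1 (Subtype.ext (h.mem_inf_iff (h.le hx2) x.2))
    obtain ⟨b, hb⟩ : ∃ b : ℤ, ∑ x : W₁, (ω₁ x : ℂ) = (b : ℂ) * (Nat.card W₁ : ℂ) := by
      have hsum := sum_hom_units ((Units.coeHom ℂ).comp ω₁)
      simp only [MonoidHom.coe_comp, Function.comp_apply, Units.coeHom_apply] at hsum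
      rw [hsum]
      split_ifs
      · exact ⟨1, by simp [Nat.card_eq_fintype_card]⟩
      · exact ⟨0, by simp⟩
    obtain ⟨s, hs'⟩ : ∃ s : ℤ, δ ω = (s : ℂ) := by
      rcases hε (EE.symm ω).2 with e | e
      exacts [⟨1, by simpa using e⟩, ⟨-1, by simpa using e⟩]
    refine ⟨(a : ℤ) - s * b, ?_⟩
    rw [hdec, hb] at hs
    rw [hs'] at hs ⊢
    push_cast
    linear_combination hs

/-- Fixed classes: as many as `|W₂|`, for each non-identity element of `W₁`. -/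
theorem Hyp.card_fixed_irr (h : Hyp K W₁ W₂) [Fintype K] :
    haveI := h.normal
    (∀ x ∈ W₁, x ≠ 1 → ∀ θ : K → ℂ, Cfsg.IsIrrCharacter K θ → CharInduce.conjFun K θ x = θ →
        ∀ y ∈ W₁, CharInduce.conjFun K θ y = θ) ∧
      Nat.card {θ : Cfsg.IrrCharacter K //
        ∀ y ∈ W₁, CharInduce.conjFun K (θ : K → ℂ) y = θ} = Nat.card W₂ := by
  classical
  haveI := h.normal
  haveI := h.cyclic₁
  have hnK : W₁ ≤ Subgroup.normalizer (K : Set L) := by
    rw [Subgroup.normalizer_eq_top]; exact le_top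
  obtain ⟨g, hg⟩ := IsCyclic.exists_generator (α := W₁)
  have hg1 : (g : L) ≠ 1 := by
    intro e
    refine h.ne_bot₁ ((Subgroup.eq_bot_iff_forall _).2 fun x hx => ?_)
    obtain ⟨i, hi⟩ := Subgroup.mem_zpowers_iff.1 (hg ⟨x, hx⟩)
    have e' : g = 1 := Subtype.ext e
    simpa [e'] using (congrArg Subtype.val hi).symm
  -- `W₂` meets distinct classes, all fixed by `W₁`
  have hW₂c : ∀ w ∈ W₂, ∀ a ∈ W₁, a * w * a⁻¹ = w := fun w hw a ha => by
    rw [h.pair.2.2.2.1 a ha w hw, mul_inv_cancel_right]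
  have hlow : ∀ x ∈ W₁, Nat.card W₂ ≤ Nat.card {C : ConjClasses K //
      ConjClasses.map ((MulAut.conjNormal x : MulAut K).toMonoidHom) C = C} := by
    intro x hx
    refine Nat.card_le_card_of_injective (fun w => ⟨ConjClasses.mk ⟨w, h.le w.2⟩,
      congrArg ConjClasses.mk (Subtype.ext (by simpa [MulAut.conjNormal_apply] using hW₂c w w.2 x hx))⟩) ?_
    intro w w' e
    obtain ⟨k, hk⟩ := isConj_iff.1 (ConjClasses.mk_eq_mk_iff_isConj.1 (congrArg Subtype.val e))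
    let conjMA : MulAction L L := MulAction.compHom L (MulAut.conj (G := L))
    letI : SMul L L := conjMA.toSMul
    have hk' : (k : L) • (w : L) = (w' : L) := congrArg Subtype.val hk
    obtain ⟨c, hc, hcw⟩ := Coprime.exists_centralizer_smul_eq (X := L) hnK h.coprime
      (Or.inl (Group.isSolvable_of_comm
        fun a b => (IsCyclic.commGroup (α := W₁)).mul_comm a b))
      (fun a ha => hW₂c w w.2 a ha) (fun a ha => hW₂c w' w'.2 a ha) k.2 hk'
    have hcW₂ : c ∈ W₂ := by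
      rw [← h.centralizer_eq g g.2 hg1]
      exact ⟨hc.1, Subgroup.mem_centralizer_singleton_iff.2
        (Subgroup.mem_centralizer_iff.1 hc.2 g g.2).symm⟩
    haveI := h.cyclic₂
    have hcomm : c * w = w * c := congrArg Subtype.val
      ((IsCyclic.commGroup (α := W₂)).mul_comm ⟨c, hcW₂⟩ w)
    refine Subtype.ext ?_
    calc (w : L) = c * w * c⁻¹ := by rw [hcomm, mul_inv_cancel_right]
      _ = w' := hcw
  have hup : ∀ x ∈ W₁, x ≠ 1 → Nat.card {C : ConjClasses K //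
      ConjClasses.map ((MulAut.conjNormal x : MulAut K).toMonoidHom) C = C} = Nat.card W₂ := by
    intro x hx hx1
    refine le_antisymm (S1512.result K W₂ x hx1 ?_ ?_) (hlow x hx)
    · exact h.coprime.coprime_dvd_left (by
        simpa [Subgroup.orderOf_mk] using orderOf_dvd_natCard (⟨x, hx⟩ : W₁))
    · exact fun y hy hy1 => h.centralizer_eq y ((Subgroup.zpowers_le.2 hx) hy) hy1
  have hirr : ∀ x ∈ W₁, x ≠ 1 → Nat.card {θ : Cfsg.IrrCharacter K //
      CharInduce.conjFun K (θ : K → ℂ) x = θ} = Nat.card W₂ := by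
    intro x hx hx1
    rw [← hup x hx hx1]
    have := CharInduce.card_fixed_irr_eq_card_fixed_classes
      (G := K) (MulAut.conjNormal x : MulAut K) (fun χ => CharInduce.isIrr_comp_mulEquiv _ χ)
    refine Eq.trans ?_ (this.trans (Nat.card_congr (Equiv.subtypeEquivRight fun C => ?_)))
    · exact Nat.card_congr (Equiv.subtypeEquivRight fun θ => by
        rw [CharInduce.conjFun_eq_comp]; rfl)
    · obtain ⟨a, rfl⟩ := ConjClasses.exists_rep C
      constructor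
      · exact fun hC => ConjClasses.mk_eq_mk_iff_isConj.2 (hC a rfl).symm
      · intro hC b hb
        have h1 := ConjClasses.mk_eq_mk_iff_isConj.1 hb
        exact h1.trans ((ConjClasses.mk_eq_mk_iff_isConj.1 hC).symm.trans
          (MonoidHom.map_isConj (MulAut.conjNormal x : MulAut K).toMonoidHom h1).symm)
  -- fixed by the generator means fixed by all
  have hgen : ∀ θ : K → ℂ, CharInduce.conjFun K θ g = θ → ∀ y ∈ W₁, CharInduce.conjFun K θ y = θ := by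
    intro θ hθ y hy
    obtain ⟨i, hi⟩ := Subgroup.mem_zpowers_iff.1 (hg ⟨y, hy⟩)
    rw [show y = (g : L) ^ i from (congrArg Subtype.val hi).symm, ← CharInduce.mem_inertia]
    exact Subgroup.zpow_mem _ ((CharInduce.mem_inertia K).2 hθ) i
  refine ⟨fun x hx hx1 θ hθ hfix y hy => hgen θ ?_ y hy, ?_⟩
  · -- inclusion of equinumerous fixed sets
    have hle : ∀ χ : Cfsg.IrrCharacter K, CharInduce.conjFun K (χ : K → ℂ) g = χ →
        CharInduce.conjFun K (χ : K → ℂ) x = χ := fun χ hχ => hgen _ hχ x hx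
    have hbij := Function.Injective.bijective_of_nat_card_le
      (f := fun χ : {χ : Cfsg.IrrCharacter K // CharInduce.conjFun K (χ : K → ℂ) g = χ} =>
        (⟨χ.1, hle χ.1 χ.2⟩ : {χ : Cfsg.IrrCharacter K // CharInduce.conjFun K (χ : K → ℂ) x = χ}))
      (fun a b e => Subtype.ext (congrArg (fun z => z.1) e))
      (by rw [hirr x hx hx1, hirr g g.2 hg1])
    obtain ⟨χ, hχ⟩ := hbij.2 ⟨⟨θ, hθ⟩, hfix⟩
    have e : ((χ.1 : Cfsg.IrrCharacter K) : K → ℂ) = θ :=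
      congrArg (fun z => ((z.1 : Cfsg.IrrCharacter K) : K → ℂ)) hχ
    exact e ▸ χ.2
  · rw [← hirr g g.2 hg1]
    exact Nat.card_congr (Equiv.subtypeEquivRight fun θ =>
      ⟨fun hh => hh g g.2, fun hh => hgen _ hh⟩)

/-- Peterfalvi (4.5): induction from `K`. -/
theorem Hyp.induce (h : Hyp K W₁ W₂) [Fintype K] {θ : K → ℂ} (hθ : Cfsg.IsIrrCharacter K θ) :
    haveI := h.normal
    ((∃ x ∈ W₁, CharInduce.conjFun K θ x ≠ θ) → Cfsg.IsIrrCharacter L (Cfsg.indFun K θ)) ∧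
      ((∀ x ∈ W₁, CharInduce.conjFun K θ x = θ) → ∃ C : Finset (L → ℂ), C.card = Nat.card W₁ ∧
        (∀ μ ∈ C, Cfsg.IsIrrCharacter L μ) ∧ Cfsg.indFun K θ = ∑ μ ∈ C, μ) := by
  classical
  haveI := h.normal
  set T := CharInduce.inertia K θ
  have hKT : K ≤ T := CharInduce.le_inertia K (CharBasic.IsIrr.isClassFunction hθ)
  have hT : ∀ t ∈ T, ∃ w ∈ W₁, CharInduce.conjFun K θ w = θ ∧ ∃ k ∈ K, t = k * w := by
    intro t ht
    obtain ⟨k, hk, w, hw, rfl⟩ := h.exists_factor_mem t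
    refine ⟨w, hw, ?_, k, hk, rfl⟩
    have := T.mul_mem (T.inv_mem (hKT hk)) ht
    rwa [inv_mul_cancel_left] at this
  constructor
  · rintro ⟨x₀, hx₀, hne⟩
    have hTK : T = K := by
      refine le_antisymm (fun t ht => ?_) hKT
      obtain ⟨w, hw, hfix, k, hk, rfl⟩ := hT t ht
      by_cases hw1 : w = 1
      · simpa [hw1] using hk
      · exact absurd (h.card_fixed_irr.1 w hw hw1 θ hθ hfix x₀ hx₀) hne
    refine CharInduce.isIrr_of_norm_one (CharInduce.IsChar.ind K (CharBasic.IsIrr.isCharacter hθ)) ?_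
    rw [PF1.classInner_indFun_self K hθ]
    show _ * (Nat.card T : ℂ) = 1
    rw [hTK, inv_mul_cancel₀ (CharInduce.card_ne_zero_complex _)]
  · intro hall
    have hTtop : T = ⊤ := by
      rw [eq_top_iff]
      intro t _
      obtain ⟨k, hk, w, hw, rfl⟩ := h.exists_factor_mem t
      exact T.mul_mem (hKT hk) (hall w hw)
    have hab : ∀ x ∈ T, ∀ y ∈ T, x * y * x⁻¹ * y⁻¹ ∈ K := by
      intro x _ y _
      obtain ⟨k, hk, a, ha, rfl⟩ := h.exists_factor_mem x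
      obtain ⟨l, hl, b, hb, rfl⟩ := h.exists_factor_mem y
      haveI := h.cyclic₁
      have hc : a * b = b * a := congrArg Subtype.val
        ((IsCyclic.commGroup (α := W₁)).mul_comm ⟨a, ha⟩ ⟨b, hb⟩)
      rw [← QuotientGroup.eq_one_iff]
      simp only [QuotientGroup.mk_mul, QuotientGroup.mk_inv, (QuotientGroup.eq_one_iff k).2 hk,
        (QuotientGroup.eq_one_iff l).2 hl, one_mul]
      rw [← QuotientGroup.mk_mul, hc, QuotientGroup.mk_mul]
      group
    obtain ⟨e, C, -, hC, hcard, hind, -, he⟩ := PF1.clifford_abelian K hθ hab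
    obtain rfl := he (by
      show Nat.Coprime _ (K.relIndex T)
      rw [hTtop, Subgroup.relIndex_top_right, h.index_eq]
      exact h.coprime.symm)
    refine ⟨C, ?_, hC, by rw [hind, Nat.cast_one, one_smul]⟩
    have hc : 1 ^ 2 * C.card * Nat.card K = Nat.card T := hcard
    rw [hTtop, Subgroup.card_top, ← K.card_mul_index, h.index_eq, one_pow, one_mul, mul_comm] at hc
    exact Nat.eq_of_mul_eq_mul_left Nat.card_pos hc

end Cfsg.Agent.OddOrder.PF4
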