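import Cfsg.Agent.OddOrder.PF4.Subcoherent

/-!
# The image of a reducible member under a coherent extension

If `T` is coherent and contains `red ψ`, its conjugate and a further pair, the extension sends
`red ψ` to `δ ∑_φ η(φ ψ)` or to `−δ ∑_φ η(φ ψ⁻¹)`.
-/

set_option autoImplicit false

open scoped ComplexConjugate

namespace Cfsg.Agent.OddOrder.PF4

open Cfsg.Agent H43 Finset

universe u

section Transport

variable {G : Type u} [Group G] {L : Subgroup G} {W₁ W₂ : Subgroup L}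

theorem linEquiv_mul (a b : ↥(W₁ ⊔ W₂) →* ℂˣ) :
    linEquiv W₁ W₂ (a * b) = linEquiv W₁ W₂ a * linEquiv W₁ W₂ b := by
  ext; rfl

theorem trivR_linEquiv {ω : ↥(W₁ ⊔ W₂) →* ℂˣ} (h : TrivR ω) : TrivR (linEquiv W₁ W₂ ω) := by
  intro w hw
  obtain ⟨v, rfl⟩ := (supEquiv W₁ W₂).surjective w
  show ω ((supEquiv W₁ W₂).symm (supEquiv W₁ W₂ v)) = 1
  rw [MulEquiv.symm_apply_apply]
  exact h v ((Subgroup.mem_map_iff_mem L.subtype_injective).1 hw)

theorem trivL_linEquiv {ω : ↥(W₁ ⊔ W₂) →* ℂˣ} (h : TrivL ω) : TrivL (linEquiv W₁ W₂ ω) := by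
  intro w hw
  obtain ⟨v, rfl⟩ := (supEquiv W₁ W₂).surjective w
  show ω ((supEquiv W₁ W₂).symm (supEquiv W₁ W₂ v)) = 1
  rw [MulEquiv.symm_apply_apply]
  exact h v ((Subgroup.mem_map_iff_mem L.subtype_injective).1 hw)

end Transport

variable {G : Type u} [Group G] [Fintype G] {L : Subgroup G} [Fintype L] {K W₁ W₂ N : Subgroup L}
  {A : Set G} {H : G → Subgroup G}
  {χ : (↥(W₁.map L.subtype ⊔ W₂.map L.subtype) →* ℂˣ) → (G → ℂ)}

namespace DadeHyp

variable (d : DadeHyp K W₁ W₂ A H)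
  (hχ : Cfsg.IsCyclicTIFamily (W₁.map L.subtype) (W₂.map L.subtype) χ)

include d

theorem not_mem_of_not_mem (w : ↥(W₁ ⊔ W₂)) (hw : (w : L) ∉ W₂) : (w : L) ∉ K := by
  intro hK
  obtain ⟨a, b, ha, hb, rfl⟩ := exists_mul_decomp d.prime.pair w
  have haK : (a : L) ∈ K := by
    simpa using K.mul_mem hK (K.inv_mem (d.prime.le hb))
  rw [Subgroup.coe_mul, d.prime.mem_inf_iff haK ha, one_mul] at hw
  exact hw hb

include hχ

/-- The relation between the coefficients of a class function vanishing on `V`. -/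
theorem eta_relation {θ : G → ℂ} (hθ : Cfsg.IsClassFunction G θ)
    (hθV : ∀ w : ↥(W₁ ⊔ W₂), (w : L) ∉ W₁ → (w : L) ∉ W₂ → θ ((w : L) : G) = 0)
    {φ ψ : ↥(W₁ ⊔ W₂) →* ℂˣ} (hφ : TrivR φ) (hψ : TrivL ψ) :
    Cfsg.classInner θ (eta χ (φ * ψ)) = Cfsg.classInner θ (eta χ φ) +
      Cfsg.classInner θ (eta χ ψ) - Cfsg.classInner θ (eta χ 1) := by
  rw [eta, eta, eta, eta, linEquiv_mul,
    family_relation d.selfNorm hχ θ hθ (fun w h1 h2 => ?_) (trivR_linEquiv hφ) (trivL_linEquiv hψ)]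
  · rfl
  · obtain ⟨v, rfl⟩ := (supEquiv W₁ W₂).surjective w
    rw [supEquiv_coe] at h1 h2 ⊢
    exact hθV v (fun h => h1 ((Subgroup.mem_map_iff_mem L.subtype_injective).2 h))
      (fun h => h2 ((Subgroup.mem_map_iff_mem L.subtype_injective).2 h))

open scoped Classical in
theorem sum_redR {M : Type*} [AddCommMonoid M] {ψ : ↥(W₁ ⊔ W₂) →* ℂˣ} (hL : TrivL ψ)
    (hn : ¬ TrivR ψ) (F : (G → ℂ) → M) :
    ∑ r ∈ d.redR χ ψ, F r = ∑ φ ∈ univ.filter (fun φ : ↥(W₁ ⊔ W₂) →* ℂˣ => TrivR φ),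
        F (d.prime.delta ψ • eta χ (φ * ψ)) +
      ∑ φ ∈ univ.filter (fun φ : ↥(W₁ ⊔ W₂) →* ℂˣ => TrivR φ),
        F (-(d.prime.delta ψ • eta χ (φ * ψ⁻¹))) := by
  have hinj : ∀ a b, d.prime.delta ψ • eta χ a = d.prime.delta ψ • eta χ b → a = b := fun a b e =>
    eta_injective hχ (smul_right_injective _ (d.prime.delta_ne_zero ψ) e)
  rw [redR, sum_union, sum_image, sum_image]
  · intro a _ b _ e
    exact mul_right_cancel (hinj _ _ (neg_inj.1 e))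
  · intro a _ b _ e
    exact mul_right_cancel (hinj _ _ e)
  · rw [disjoint_left]
    intro r hr hr'
    obtain ⟨a, ha, rfl⟩ := mem_image.1 hr
    obtain ⟨b, hb, e⟩ := mem_image.1 hr'
    have hne : a * ψ ≠ b * ψ⁻¹ := fun e' => d.prime.inv_ne hn (factor_unique d.prime.pair
      (mem_filter.1 ha).2 (mem_filter.1 hb).2 hL (Hyp.trivL_inv hL) e').2.symm
    have h1 := congrArg (fun f => Cfsg.classInner f (eta χ (a * ψ))) e
    simp only [CharBasic.classInner_neg_left, CharBasic.classInner_smul_left, eta_orth hχ,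
      if_neg (Ne.symm hne), if_true, mul_zero, neg_zero, mul_one] at h1
    exact d.prime.delta_ne_zero ψ h1.symm

open scoped Classical in
/-- The dichotomy for the image of a reducible member. -/
theorem red_image {S T : Set (L → ℂ)} {R : (L → ℂ) → Finset (G → ℂ)}
    (hsys : Cfsg.IsCoherenceSystem S (Cfsg.dadeIsometry A L H) R)
    (hS : ∀ φ ∈ S, ∃ θ : K → ℂ, Cfsg.IsIrrCharacter K θ ∧
      (∃ n : K, (n : L) ∈ N ∧ θ n ≠ θ 1) ∧ φ = Cfsg.indFun K θ)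
    (hirr : ∀ φ ∈ S, Cfsg.IsIrrCharacter L φ → ∀ r ∈ R φ, ∀ ω, Cfsg.classInner r (eta χ ω) = 0)
    (hred : ∀ η, TrivL η → R (d.prime.red η) = d.redR χ η)
    (hT : T ⊆ S) (hTc : ∀ φ ∈ T, Cfsg.conjFun φ ∈ T) {τ₁ : (L → ℂ) → (G → ℂ)}
    (hτ₁ : Cfsg.IsLinearIsometryOn (Cfsg.zspan T) τ₁)
    (hagree : ∀ α ∈ Cfsg.zspanOn T ({1}ᶜ : Set L), τ₁ α = Cfsg.dadeIsometry A L H α)
    {ψ : ↥(W₁ ⊔ W₂) →* ℂˣ} (hL : TrivL ψ) (hn : ¬ TrivR ψ) (hψT : d.prime.red ψ ∈ T)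
    {φ₀ : L → ℂ} (hφ₀ : φ₀ ∈ T) (hne : φ₀ ≠ d.prime.red ψ) (hne' : φ₀ ≠ d.prime.red ψ⁻¹) :
    τ₁ (d.prime.red ψ) = d.prime.delta ψ •
        ∑ φ ∈ univ.filter (fun φ : ↥(W₁ ⊔ W₂) →* ℂˣ => TrivR φ), eta χ (φ * ψ) ∨
      τ₁ (d.prime.red ψ) = -d.prime.delta ψ •
        ∑ φ ∈ univ.filter (fun φ : ↥(W₁ ⊔ W₂) →* ℂˣ => TrivR φ), eta χ (φ * ψ⁻¹) := by
  haveI := d.prime.normal
  set P := univ.filter (fun φ : ↥(W₁ ⊔ W₂) →* ℂˣ => TrivR φ) with hP
  set μ := d.prime.red ψ with hμ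
  set f := τ₁ μ with hf
  set δ := d.prime.delta ψ with hδdef
  have hδc : conj δ = δ := by rcases d.prime.delta_eq ψ with e | e <;> simp [hδdef, e]
  have hδ2 : δ * δ = 1 := d.prime.delta_mul_self ψ
  have hμS := hT hψT
  have hproj := sys_image_eq_proj hsys hτ₁ hagree hμS hψT (hTc _ hψT)
  rw [← hf, show R μ = d.redR χ ψ from hred ψ hL, proj, d.sum_redR hχ hL hn] at hproj
  set a : (↥(W₁ ⊔ W₂) →* ℂˣ) → ℂ := fun ω => Cfsg.classInner f (eta χ ω) with ha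
  have hexp : f = ∑ φ ∈ P, a (φ * ψ) • eta χ (φ * ψ) + ∑ φ ∈ P, a (φ * ψ⁻¹) • eta χ (φ * ψ⁻¹) := by
    refine hproj.trans ?_
    congr 1 <;> refine sum_congr rfl fun φ _ => ?_
    · rw [CharBasic.classInner_smul_right, hδc, smul_smul]
      show ((δ * a (φ * ψ)) * δ) • _ = _
      rw [mul_right_comm, hδ2, one_mul]
    · rw [CharBasic.classInner_neg_right, CharBasic.classInner_smul_right, hδc, smul_neg, smul_smul,
        ← neg_smul]
      show (-(-(δ * a (φ * ψ⁻¹)) * δ)) • _ = _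
      rw [neg_mul, neg_neg, mul_right_comm, hδ2, one_mul]
  -- the coefficients are constant along the two columns
  have hcol : ∀ ψ', TrivL ψ' → (ψ' = ψ ∨ ψ' = ψ⁻¹) → ∀ φ, TrivR φ → a (φ * ψ') = a ψ' := by
    intro ψ' hψ' hor φ hφ
    obtain ⟨n₀, hn₀pos, hn₀, -⟩ := sys_degree hsys (hT hφ₀)
    obtain ⟨m, -, hm, -⟩ := sys_degree hsys hμS
    set g := τ₁ ((n₀ : ℤ) • μ - (m : ℤ) • φ₀) with hg
    have hmem : (n₀ : ℤ) • μ - (m : ℤ) • φ₀ ∈ Cfsg.zspanOn T ({1}ᶜ : Set L) := by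
      rw [zspanOn_compl_one]
      refine ⟨zspan_sub (zspan_zsmul (zspan_mem hψT) _) (zspan_zsmul (zspan_mem hφ₀) _), ?_⟩
      simp [hn₀, hm, mul_comm]
    have hgV : ∀ w : ↥(W₁ ⊔ W₂), (w : L) ∉ W₁ → (w : L) ∉ W₂ → g ((w : L) : G) = 0 := by
      intro w h1 h2
      have hz : ∀ ξ ∈ S, ξ w = 0 := fun ξ hξ => by
        obtain ⟨θ, -, -, rfl⟩ := hS ξ hξ
        exact CharInduce.indFun_eq_zero_of_normal K θ (d.not_mem_of_not_mem w h2)
      have hcl : Cfsg.IsClassFunction L ((n₀ : ℤ) • μ - (m : ℤ) • φ₀) :=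
        gen_isClassFunction (gen_sub (gen_zsmul (gen_of_char (hsys.isCharacter _ hμS)) _)
          (gen_zsmul (gen_of_char (hsys.isCharacter _ (hT hφ₀))) _))
      rw [hg, hagree _ hmem, H43.dade_apply d.dade hcl (d.V_subset _ w.2 h1 h2) (x := 1) (u := 1)
        (Subgroup.one_mem _) (by group)]
      simp [hz _ hμS, hz _ (hT hφ₀)]
    have hrel := d.eta_relation hχ (gen_isClassFunction (iso_gen hτ₁ hmem.1)) hgV hφ hψ'
    have hsplit : ∀ ω, (∀ r ∈ R φ₀, Cfsg.classInner r (eta χ ω) = 0) →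
        Cfsg.classInner g (eta χ ω) = (n₀ : ℂ) * a ω := by
      intro ω hω
      have h0 : Cfsg.classInner (τ₁ φ₀) (eta χ ω) = 0 := by
        rw [sys_image_eq_proj hsys hτ₁ hagree (hT hφ₀) hφ₀ (hTc _ hφ₀), proj,
          CharBasic.classInner_sum_left]
        exact sum_eq_zero fun r hr => by rw [CharBasic.classInner_smul_left, hω r hr, mul_zero]
      rw [hg, iso_sub hτ₁ (zspan_zsmul (zspan_mem hψT) _) (zspan_zsmul (zspan_mem hφ₀) _)
        (zspan_sub (zspan_zsmul (zspan_mem hψT) _) (zspan_zsmul (zspan_mem hφ₀) _)),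
        hτ₁.2.1 _ (zspan_mem hψT), hτ₁.2.1 _ (zspan_mem hφ₀), CharBasic.classInner_sub_left,
        H43.classInner_zsmul_left, H43.classInner_zsmul_left, h0, mul_zero, sub_zero]
      push_cast
      rfl
    have hm1 : ∀ x : ↥(W₁ ⊔ W₂) →* ℂˣ, x * 1 = x := fun x => by ext; simp
    have h1m : ∀ x : ↥(W₁ ⊔ W₂) →* ℂˣ, 1 * x = x := fun x => by ext; simp
    have hout : ∀ φ₁ ψ₁, TrivR φ₁ → TrivL ψ₁ → (ψ₁ = 1 ∨ ψ₁ = ψ ∨ ψ₁ = ψ⁻¹) →
        ∀ r ∈ R φ₀, Cfsg.classInner r (eta χ (φ₁ * ψ₁)) = 0 := by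
      intro φ₁ ψ₁ hφ₁ hψ₁ hor₁ r hr
      obtain ⟨θ, hθ, hnt, e⟩ := hS φ₀ (hT hφ₀)
      rcases d.prime.ind_cases hθ hnt with ⟨hi, -⟩ | ⟨ψ₀, hL₀, hn₀', e₀⟩
      · exact hirr φ₀ (hT hφ₀) (e ▸ hi) r hr _
      · rw [e₀] at e
        rw [e, hred ψ₀ hL₀] at hr
        refine d.redR_orth_eta hχ hr fun η hη => ⟨fun e1 => ?_, fun e1 => ?_⟩
        · obtain rfl := (factor_unique d.prime.pair hη hφ₁ hL₀ hψ₁ e1).2
          rcases hor₁ with h | h | h
          · exact hn₀' (h ▸ trivR_one)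
          · exact hne (e.trans (congrArg d.prime.red h))
          · exact hne' (e.trans (congrArg d.prime.red h))
        · obtain rfl := (factor_unique d.prime.pair hη hφ₁ (Hyp.trivL_inv hL₀) hψ₁ e1).2
          have hii : ψ₀⁻¹⁻¹ = ψ₀ := by ext; simp
          rcases hor₁ with h | h | h
          · exact hn₀' (by rw [← hii, h, show (1 : ↥(W₁ ⊔ W₂) →* ℂˣ)⁻¹ = 1 from by ext; simp]; exact trivR_one)
          · exact hne' (by rw [e, ← h, hii])
          · exact hne (by rw [e, show ψ₀ = ψ from by rw [← hii, h]; ext; simp])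
    have hzero : ∀ φ₁, TrivR φ₁ → a φ₁ = 0 := by
      intro φ₁ hφ₁
      show Cfsg.classInner f (eta χ φ₁) = 0
      rw [hexp, CharBasic.classInner_add_left, CharBasic.classInner_sum_left,
        CharBasic.classInner_sum_left, sum_eq_zero, sum_eq_zero, add_zero] <;> intro η hη <;>
        rw [CharBasic.classInner_smul_left, eta_orth hχ, if_neg, mul_zero] <;> intro e1
      · refine Hyp.not_trivR_inv hn ?_
        have h2 := (factor_unique d.prime.pair (mem_filter.1 hη).2 hφ₁ (Hyp.trivL_inv hL) trivL_one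
          (e1.trans (hm1 _).symm)).2
        rw [h2]; exact trivR_one
      · refine hn ?_
        have h2 := (factor_unique d.prime.pair (mem_filter.1 hη).2 hφ₁ hL trivL_one
          (e1.trans (hm1 _).symm)).2
        rw [h2]; exact trivR_one
    rw [hsplit _ (hout φ ψ' hφ hψ' (Or.inr hor)),
      hsplit φ (fun r hr => hm1 φ ▸ hout φ 1 hφ trivL_one (Or.inl rfl) r hr),
      hsplit ψ' (fun r hr => h1m ψ' ▸ hout 1 ψ' trivR_one hψ' (Or.inr hor) r hr),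
      hsplit 1 (fun r hr => hm1 1 ▸ hout 1 1 trivR_one trivL_one (Or.inl rfl) r hr),
      hzero φ hφ, hzero 1 trivR_one] at hrel
    simpa [hn₀pos.ne'] using hrel
  have hexp' : f = a ψ • ∑ φ ∈ P, eta χ (φ * ψ) + a ψ⁻¹ • ∑ φ ∈ P, eta χ (φ * ψ⁻¹) := by
    rw [smul_sum, smul_sum]
    refine hexp.trans ?_
    congr 1 <;> refine sum_congr rfl fun φ hφ => ?_
    · rw [hcol ψ hL (Or.inl rfl) φ (mem_filter.1 hφ).2]
    · rw [hcol ψ⁻¹ (Hyp.trivL_inv hL) (Or.inr rfl) φ (mem_filter.1 hφ).2]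
  have hcardP : (P.card : ℂ) = (Nat.card W₁ : ℂ) := by
    rw [hP, ← (PF3.card_trivR_trivL d.prime.pair).1, Nat.card_eq_fintype_card, Fintype.card_subtype]
  have hgenf : Cfsg.IsGeneralizedCharacter G f := iso_gen hτ₁ (zspan_mem hψT)
  obtain ⟨p, hp⟩ := gen_inner_int hgenf (eta_signed hχ ψ).gen
  obtain ⟨q, hq⟩ := gen_inner_int hgenf (eta_signed hχ ψ⁻¹).gen
  replace hp : a ψ = p := hp
  replace hq : a ψ⁻¹ = q := hq
  -- norm
  have hnorm : (Nat.card W₁ : ℂ) * ((p : ℂ) * p + q * q) = (Nat.card W₁ : ℂ) * 1 := by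
    have h1 : Cfsg.classInner f f = (Nat.card W₁ : ℂ) := by
      rw [hf, iso_inner hτ₁ (zspan_mem hψT) (zspan_mem hψT), hμ, d.prime.classInner_red_self]
    nth_rw 1 [hexp'] at h1
    simp only [CharBasic.classInner_add_left, CharBasic.classInner_smul_left,
      CharBasic.classInner_sum_left] at h1
    rw [mul_one]
    refine Eq.trans ?_ h1
    rw [sum_congr rfl fun φ hφ => (show Cfsg.classInner (eta χ (φ * ψ)) f = (p : ℂ) by
        rw [← CharInduce.conj_classInner, show Cfsg.classInner f (eta χ (φ * ψ)) = a (φ * ψ) from rfl,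
          hcol ψ hL (Or.inl rfl) φ (mem_filter.1 hφ).2, hp, map_intCast]),
      sum_congr rfl fun φ hφ => (show Cfsg.classInner (eta χ (φ * ψ⁻¹)) f = (q : ℂ) by
        rw [← CharInduce.conj_classInner,
          show Cfsg.classInner f (eta χ (φ * ψ⁻¹)) = a (φ * ψ⁻¹) from rfl,
          hcol ψ⁻¹ (Hyp.trivL_inv hL) (Or.inr rfl) φ (mem_filter.1 hφ).2, hq, map_intCast]),
      sum_const, sum_const, nsmul_eq_mul, nsmul_eq_mul, hcardP, hp, hq]
    ring
  -- pairing with `τ (μ − conj μ)`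
  have hdiff : (Nat.card W₁ : ℂ) * (δ * ((p : ℂ) - q)) = (Nat.card W₁ : ℂ) * 1 := by
    have hd := sys_diff_mem hsys hμS
    have h2 := hsys.sum_eq μ hμS
    have hmem : μ - Cfsg.conjFun μ ∈ Cfsg.zspanOn T ({1}ᶜ : Set L) :=
      ⟨zspan_sub (zspan_mem hψT) (zspan_mem (hTc _ hψT)), hd.2⟩
    rw [← hagree _ hmem, iso_sub hτ₁ (zspan_mem hψT) (zspan_mem (hTc _ hψT)) hmem.1,
      show R μ = d.redR χ ψ from hred ψ hL] at h2
    have h3 := congrArg (Cfsg.classInner f) h2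
    rw [CharBasic.classInner_sub_right, hf, iso_inner hτ₁ (zspan_mem hψT) (zspan_mem hψT),
      iso_inner hτ₁ (zspan_mem hψT) (zspan_mem (hTc _ hψT)), (sys_orth_conj hsys hμS).1, sub_zero,
      hμ, d.prime.classInner_red_self, ← hμ, ← hf, CharBasic.classInner_sum_right,
      d.sum_redR hχ hL hn] at h3
    rw [mul_one]
    refine Eq.trans ?_ h3.symm
    rw [sum_congr rfl fun φ hφ => (show Cfsg.classInner f (δ • eta χ (φ * ψ)) = δ * (p : ℂ) by
        rw [CharBasic.classInner_smul_right, hδc,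
          show Cfsg.classInner f (eta χ (φ * ψ)) = a (φ * ψ) from rfl,
          hcol ψ hL (Or.inl rfl) φ (mem_filter.1 hφ).2, hp]),
      sum_congr rfl fun φ hφ => (show Cfsg.classInner f (-(δ • eta χ (φ * ψ⁻¹))) = -(δ * (q : ℂ)) by
        rw [CharBasic.classInner_neg_right, CharBasic.classInner_smul_right, hδc,
          show Cfsg.classInner f (eta χ (φ * ψ⁻¹)) = a (φ * ψ⁻¹) from rfl,
          hcol ψ⁻¹ (Hyp.trivL_inv hL) (Or.inr rfl) φ (mem_filter.1 hφ).2, hq]),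
      sum_const, sum_const, nsmul_eq_mul, nsmul_eq_mul, hcardP]
    ring
  have hw := CharInduce.card_ne_zero_complex W₁
  have e1 := mul_left_cancel₀ hw hnorm
  have e2 := mul_left_cancel₀ hw hdiff
  have e3 : ((p : ℂ) * q) = 0 := by
    linear_combination (1 / 2 : ℂ) * e1 - (1 / 2 : ℂ) * δ * ((p : ℂ) - q) * e2 -
      (1 / 2 : ℂ) * δ * ((p : ℂ) - q) * 0 + (1 / 2 : ℂ) * (((p : ℂ) - q) * ((p : ℂ) - q)) * hδ2 -
      (1 / 2 : ℂ) * e2
  rcases mul_eq_zero.1 e3 with h | h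
  · right
    rw [hexp', hp, hq, h, zero_smul, zero_add]
    congr 1
    linear_combination (-δ) * e2 - (q : ℂ) * hδ2 + δ * δ * h
  · left
    rw [hexp', hp, hq, h, zero_smul, add_zero]
    congr 1
    linear_combination δ * e2 - (p : ℂ) * hδ2 + δ * δ * h

end DadeHyp

end Cfsg.Agent.OddOrder.PF4
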