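import Cfsg.Agent.OddOrder.PF4.Dade
import Cfsg.Agent.H43.CoherenceSystem
import Cfsg.Agent.S1514

/-!
# Peterfalvi (4.8), (4.9): the reducible induced characters and their coherence

`red ω = Ind_K^L θ_ω`, the sum of the `μ` agreeing with `ω` on `W₂`; coherence of the sets of equal
degree; the coherence system of the induced characters with explicit values at the reducible ones.
-/

set_option autoImplicit false

open scoped ComplexConjugate

namespace Cfsg.Agent.OddOrder.PF3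

open Cfsg.Agent H43 Finset

universe u

variable {G : Type u} [Group G] [Fintype G] {W₁ W₂ : Subgroup G}
  {χ : (↥(W₁ ⊔ W₂) →* ℂˣ) → (G → ℂ)}

open scoped Classical in
/-- A norm two virtual character vanishing outside `W₁ ∪ W₂` is orthogonal to the family. -/
theorem orth_of_norm_two (hW : Cfsg.IsSelfNormalizingCyclic W₁ W₂)
    (hodd : Odd (Nat.card ↥(W₁ ⊔ W₂))) (hχ : Cfsg.IsCyclicTIFamily W₁ W₂ χ) {β : G → ℂ}
    (hβ : Cfsg.IsGeneralizedCharacter G β) (hN : Cfsg.classInner β β = 2)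
    (hV : ∀ w : ↥(W₁ ⊔ W₂), (w : G) ∉ W₁ → (w : G) ∉ W₂ → β w = 0) (ω : ↥(W₁ ⊔ W₂) →* ℂˣ) :
    Cfsg.classInner β (χ ω) = 0 := by
  obtain ⟨b, hb, hle, -⟩ := exists_coeff hχ hβ (N := 2) (by rw [hN]; norm_num)
  have hS : (univ.filter fun η => b η ≠ 0).card ≤ 2 := by
    have h1 : ((univ.filter fun η => b η ≠ 0).card : ℤ) ≤ ∑ η, b η ^ 2 := by
      rw [card_eq_sum_ones, Nat.cast_sum]
      refine le_trans (sum_le_sum fun η hη => ?_) (sum_le_sum_of_subset_of_nonneg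
        (subset_univ _) fun η _ _ => sq_nonneg (b η))
      push_cast
      exact Int.add_one_le_iff.2 (lt_of_le_of_ne (sq_nonneg _)
        (Ne.symm (pow_ne_zero 2 (mem_filter.1 hη).2)))
    omega
  have h6 : Nat.card {η // Cfsg.classInner β (χ η) ≠ 0} < 6 := by
    rw [Nat.card_eq_fintype_card, Fintype.card_subtype]
    refine lt_of_le_of_lt (card_le_card (t := univ.filter fun η => b η ≠ 0) fun η hη => ?_) (by omega)
    have := (mem_filter.1 hη).2
    rw [hb, Int.cast_ne_zero] at this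
    exact mem_filter.2 ⟨mem_univ _, this⟩
  obtain ⟨c, hcase, hc⟩ := few_const hW hodd hχ (gen_isClassFunction hβ) hV h6
  rcases hc with rfl | h3
  · exact (hcase ω).elim id id
  · by_cases hc0 : c = 0
    · subst hc0; exact (hcase ω).elim id id
    · exfalso
      have := card_le_card (s := univ.filter fun η => Cfsg.classInner β (χ η) = c)
        (t := univ.filter fun η => b η ≠ 0) fun η hη => mem_filter.2 ⟨mem_univ _, fun e => hc0 (by
          rw [← (mem_filter.1 hη).2, hb, e, Int.cast_zero])⟩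
      omega

end Cfsg.Agent.OddOrder.PF3

namespace Cfsg.Agent.OddOrder.PF4

open Cfsg.Agent H43 Finset

universe u

namespace Hyp

variable {L : Type u} [Group L] [Fintype L] {K W₁ W₂ : Subgroup L}

/-- The reducible induced character `μ_j = Ind θ_j`. -/
noncomputable def red (h : Hyp K W₁ W₂) (ω : ↥(W₁ ⊔ W₂) →* ℂˣ) : L → ℂ :=
  Cfsg.indFun K (h.theta ω)

variable (h : Hyp K W₁ W₂)

include h

theorem red_congr {ω ω' : ↥(W₁ ⊔ W₂) →* ℂˣ}
    (e : ∀ w : ↥(W₁ ⊔ W₂), (w : L) ∈ W₂ → ω w = ω' w) : h.red ω = h.red ω' := by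
  rw [red, red, h.theta_congr e]

open scoped Classical in
theorem red_eq_sum (ω : ↥(W₁ ⊔ W₂) →* ℂˣ) :
    h.red ω = ∑ φ ∈ univ.filter (fun φ : ↥(W₁ ⊔ W₂) →* ℂˣ => TrivR φ), h.mu (φ * ω) := by
  haveI : Fintype ↥(W₁ ⊔ W₂) := Fintype.ofFinite _
  exact h.ind_theta ω

open scoped Classical in
theorem classInner_red_mu (ω ω' : ↥(W₁ ⊔ W₂) →* ℂˣ) :
    Cfsg.classInner (h.red ω) (h.mu ω') =
      if ∀ w : ↥(W₁ ⊔ W₂), (w : L) ∈ W₂ → ω' w = ω w then 1 else 0 := by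
  haveI : Fintype ↥(W₁ ⊔ W₂) := Fintype.ofFinite _
  rw [red]
  convert h.classInner_ind_theta ω ω'

theorem red_eq_iff {ω ω' : ↥(W₁ ⊔ W₂) →* ℂˣ} :
    h.red ω = h.red ω' ↔ ∀ w : ↥(W₁ ⊔ W₂), (w : L) ∈ W₂ → ω w = ω' w := by
  classical
  refine ⟨fun e => ?_, fun e => h.red_congr e⟩
  by_contra hne
  have e1 := h.classInner_red_mu ω' ω
  rw [← e, h.classInner_red_mu ω ω, if_pos fun w _ => rfl, if_neg hne] at e1
  exact one_ne_zero e1

theorem red_inj {ψ ψ' : ↥(W₁ ⊔ W₂) →* ℂˣ} (hψ : TrivL ψ) (hψ' : TrivL ψ')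
    (e : h.red ψ = h.red ψ') : ψ = ψ' :=
  linear_ext h.pair (fun w hw => by rw [hψ w hw, hψ' w hw]) (h.red_eq_iff.1 e)

theorem classInner_red_ne {ω ω' : ↥(W₁ ⊔ W₂) →* ℂˣ}
    (hne : ¬ ∀ w : ↥(W₁ ⊔ W₂), (w : L) ∈ W₂ → ω w = ω' w) :
    Cfsg.classInner (h.red ω) (h.red ω') = 0 := by
  classical
  rw [h.red_eq_sum ω', CharBasic.classInner_sum_right]
  refine sum_eq_zero fun φ hφ => ?_
  rw [h.classInner_red_mu, if_neg]
  exact fun e => hne fun w hw => by
    have := e w hw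
    rw [MonoidHom.mul_apply, (mem_filter.1 hφ).2 w hw, one_mul] at this
    exact this.symm

theorem classInner_red_self (ω : ↥(W₁ ⊔ W₂) →* ℂˣ) :
    Cfsg.classInner (h.red ω) (h.red ω) = (Nat.card W₁ : ℂ) := by
  classical
  nth_rw 2 [h.red_eq_sum ω]
  rw [CharBasic.classInner_sum_right, sum_congr rfl fun φ hφ => by
    rw [h.classInner_red_mu, if_pos fun w hw => by
      rw [MonoidHom.mul_apply, (mem_filter.1 hφ).2 w hw, one_mul]], sum_const, nsmul_eq_mul, mul_one,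
    ← (PF3.card_trivR_trivL h.pair).1, Nat.card_eq_fintype_card, Fintype.card_subtype]

theorem red_not_irr (ω : ↥(W₁ ⊔ W₂) →* ℂˣ) : ¬ Cfsg.IsIrrCharacter L (h.red ω) := by
  intro hi
  have e := h.classInner_red_self ω
  rw [CharBasic.classInner_irr_self hi] at e
  have e' : Nat.card W₁ = 1 := by exact_mod_cast e.symm
  have := (PF3.card_facts h.pair h.odd).2.2.1
  omega

theorem mu_one_congr {φ : ↥(W₁ ⊔ W₂) →* ℂˣ} (hφ : TrivR φ) (ω : ↥(W₁ ⊔ W₂) →* ℂˣ) :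
    h.mu (φ * ω) 1 = h.mu ω 1 := by
  rw [(h.mu_mul hφ ω).1]
  simp

theorem red_one (ω : ↥(W₁ ⊔ W₂) →* ℂˣ) : h.red ω 1 = (Nat.card W₁ : ℂ) * h.mu ω 1 := by
  rw [red, CharInduce.indFun_one, h.index_eq]
  rfl

theorem red_conj (ω : ↥(W₁ ⊔ W₂) →* ℂˣ) : Cfsg.conjFun (h.red ω) = h.red ω⁻¹ := by
  funext g
  show conj (Cfsg.indFun K (h.theta ω) g) = Cfsg.indFun K (h.theta ω⁻¹) g
  rw [CharInduce.conj_indFun]
  congr 1
  funext k
  show conj (h.mu ω k) = h.mu ω⁻¹ k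
  rw [(h.mu_inv ω).1]
  rfl

omit h in
theorem exists_ne_one {φ ψ : ↥(W₁ ⊔ W₂) →* ℂˣ} (hφ : TrivR φ) (hψ : ¬ TrivR ψ) :
    ∃ w : ↥(W₁ ⊔ W₂), (w : L) ∈ W₂ ∧ (φ * ψ) w ≠ 1 := by
  unfold TrivR at hψ
  push Not at hψ
  obtain ⟨w, hw, hne⟩ := hψ
  exact ⟨w, hw, by rwa [MonoidHom.mul_apply, hφ w hw, one_mul]⟩

omit h in
theorem not_trivR_inv {ψ : ↥(W₁ ⊔ W₂) →* ℂˣ} (hψ : ¬ TrivR ψ) : ¬ TrivR ψ⁻¹ :=
  fun e => hψ fun w hw => inv_eq_one.1 (e w hw)

omit h in
theorem trivL_inv {ψ : ↥(W₁ ⊔ W₂) →* ℂˣ} (hψ : TrivL ψ) : TrivL ψ⁻¹ := fun w hw => by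
  rw [MonoidHom.inv_apply, hψ w hw, inv_one]

theorem inv_ne {ψ : ↥(W₁ ⊔ W₂) →* ℂˣ} (hψ : ¬ TrivR ψ) : ψ⁻¹ ≠ ψ := by
  refine h.inv_ne_self ?_
  rintro rfl
  exact hψ trivR_one

theorem conj_red_ne {ψ : ↥(W₁ ⊔ W₂) →* ℂˣ} (hL : TrivL ψ) (hψ : ¬ TrivR ψ) :
    Cfsg.conjFun (h.red ψ) ≠ h.red ψ := by
  rw [h.red_conj]
  exact fun e => h.inv_ne hψ (h.red_inj (trivL_inv hL) hL e)

/-- The classification of the induced characters with `N` outside the kernel. -/
theorem ind_cases {N : Subgroup L} {θ : K → ℂ} (hθ : Cfsg.IsIrrCharacter K θ)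
    (hnt : ∃ n : K, (n : L) ∈ N ∧ θ n ≠ θ 1) :
    (Cfsg.IsIrrCharacter L (Cfsg.indFun K θ) ∧ ∀ ω, Cfsg.indFun K θ ≠ h.mu ω) ∨
      ∃ ψ, TrivL ψ ∧ ¬ TrivR ψ ∧ Cfsg.indFun K θ = h.red ψ := by
  classical
  haveI := h.normal
  haveI := Fintype.ofFinite K
  by_cases hfix : ∀ x ∈ W₁, CharInduce.conjFun K θ x = θ
  · obtain ⟨ω, hL, rfl⟩ := h.exists_theta hθ hfix
    refine Or.inr ⟨ω, hL, fun hR => ?_, rfl⟩
    obtain rfl : ω = 1 := linear_ext h.pair (fun w hw => hL w hw) fun w hw => hR w hw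
    obtain ⟨n, -, hne⟩ := hnt
    exact hne (by rw [h.theta_one])
  · push Not at hfix
    exact Or.inl ⟨(h.induce hθ).1 hfix, fun ω => h.ind_ne_mu θ ω⟩

theorem classInner_irr_red {φ : L → ℂ} (hφ : Cfsg.IsIrrCharacter L φ) (hne : ∀ ω, φ ≠ h.mu ω)
    (ω : ↥(W₁ ⊔ W₂) →* ℂˣ) : Cfsg.classInner φ (h.red ω) = 0 := by
  classical
  rw [h.red_eq_sum, CharBasic.classInner_sum_right]
  exact sum_eq_zero fun ψ _ => CharBasic.classInner_irr_of_ne hφ (h.mu_irr _) (hne _)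

end Hyp

variable {G : Type u} [Group G] [Fintype G] {L : Subgroup G} [Fintype L] {K W₁ W₂ N : Subgroup L}
  {A : Set G} {H : G → Subgroup G}
  {χ : (↥(W₁.map L.subtype ⊔ W₂.map L.subtype) →* ℂˣ) → (G → ℂ)}

namespace DadeHyp

/-- The linear map `μ ω ↦ δ ω η ω`. -/
noncomputable def lift (d : DadeHyp K W₁ W₂ A H)
    (χ : (↥(W₁.map L.subtype ⊔ W₂.map L.subtype) →* ℂˣ) → (G → ℂ)) (α : L → ℂ) : G → ℂ :=
  ∑ ω, (Cfsg.classInner α (d.prime.mu ω) * d.prime.delta ω) • eta χ ω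

open scoped Classical in
/-- The explicit orthonormal set attached to a reducible member. -/
noncomputable def redR (d : DadeHyp K W₁ W₂ A H)
    (χ : (↥(W₁.map L.subtype ⊔ W₂.map L.subtype) →* ℂˣ) → (G → ℂ)) (ψ : ↥(W₁ ⊔ W₂) →* ℂˣ) :
    Finset (G → ℂ) :=
  (univ.filter fun φ : ↥(W₁ ⊔ W₂) →* ℂˣ => TrivR φ).image
      (fun φ => d.prime.delta ψ • eta χ (φ * ψ)) ∪
    (univ.filter fun φ : ↥(W₁ ⊔ W₂) →* ℂˣ => TrivR φ).image
      (fun φ => -(d.prime.delta ψ • eta χ (φ * ψ⁻¹)))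

variable (d : DadeHyp K W₁ W₂ A H)

theorem lift_add (α β : L → ℂ) : d.lift χ (α + β) = d.lift χ α + d.lift χ β := by
  simp only [lift, CharBasic.classInner_add_left, add_mul, add_smul, sum_add_distrib]

theorem lift_smul (c : ℂ) (α : L → ℂ) : d.lift χ (c • α) = c • d.lift χ α := by
  simp only [lift, CharBasic.classInner_smul_left, smul_sum, smul_smul, mul_assoc]

theorem lift_zero : d.lift χ 0 = 0 := by
  have := d.lift_smul (χ := χ) 0 0
  simpa using this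

theorem lift_zsmul (n : ℤ) (α : L → ℂ) : d.lift χ (n • α) = n • d.lift χ α := by
  rw [← Int.cast_smul_eq_zsmul ℂ n α, d.lift_smul, Int.cast_smul_eq_zsmul]

theorem lift_mu (η : ↥(W₁ ⊔ W₂) →* ℂˣ) :
    d.lift χ (d.prime.mu η) = d.prime.delta η • eta χ η := by
  classical
  simp only [lift, CharBasic.classInner_irr (d.prime.mu_irr _) (d.prime.mu_irr _),
    d.prime.mu_injective.eq_iff, ite_mul, one_mul, zero_mul, ite_smul, zero_smul, sum_ite_eq,
    mem_univ, if_true]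

open scoped Classical in
theorem lift_red (ψ : ↥(W₁ ⊔ W₂) →* ℂˣ) :
    d.lift χ (d.prime.red ψ) = d.prime.delta ψ •
      ∑ φ ∈ univ.filter (fun φ : ↥(W₁ ⊔ W₂) →* ℂˣ => TrivR φ), eta χ (φ * ψ) := by
  simp only [lift, d.prime.classInner_red_mu, ite_mul, one_mul, zero_mul, ite_smul, zero_smul]
  rw [← sum_filter, smul_sum]
  refine sum_nbij' (fun ω => ω * ψ⁻¹) (fun φ => φ * ψ) ?_ ?_ ?_ ?_ ?_
  · intro ω hω
    exact mem_filter.2 ⟨mem_univ _, fun w hw => by simp [(mem_filter.1 hω).2 w hw]⟩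
  · intro φ hφ
    exact mem_filter.2 ⟨mem_univ _, fun w hw => by simp [(mem_filter.1 hφ).2 w hw]⟩
  · intro ω _; ext; simp
  · intro φ _; ext; simp
  · intro ω hω
    rw [d.prime.delta_congr (ω := ω) (ω' := ψ) (mem_filter.1 hω).2,
      show ω * ψ⁻¹ * ψ = ω from by ext; simp]

variable (hχ : Cfsg.IsCyclicTIFamily (W₁.map L.subtype) (W₂.map L.subtype) χ)
  (s : SuppHyp K W₂ N A)

include hχ s

open scoped Classical in
/-- Peterfalvi (4.8): differences of reducible characters of equal degree. -/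
theorem dade_red_sub {ψ ψ' : ↥(W₁ ⊔ W₂) →* ℂˣ} (hψ : TrivL ψ) (hψ' : TrivL ψ') (hn : ¬ TrivR ψ)
    (hn' : ¬ TrivR ψ') (hdeg : d.prime.red ψ 1 = d.prime.red ψ' 1) :
    Cfsg.dadeIsometry A L H (d.prime.red ψ - d.prime.red ψ') = d.prime.delta ψ •
      ∑ φ ∈ univ.filter (fun φ : ↥(W₁ ⊔ W₂) →* ℂˣ => TrivR φ),
        (eta χ (φ * ψ) - eta χ (φ * ψ')) := by
  rw [d.prime.red_one, d.prime.red_one] at hdeg
  have hμ := mul_left_cancel₀ (CharInduce.card_ne_zero_complex _) hdeg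
  rw [d.prime.red_eq_sum, d.prime.red_eq_sum, ← sum_sub_distrib, dade_sum, smul_sum]
  refine sum_congr rfl fun φ hφ => ?_
  have hφ' := (mem_filter.1 hφ).2
  rw [d.dade_mu_sub hχ s (Hyp.exists_ne_one hφ' hn) (Hyp.exists_ne_one hφ' hn')
    (fun w hw => by simp [hψ w hw, hψ' w hw])
    (by rw [d.prime.mu_one_congr hφ', d.prime.mu_one_congr hφ', hμ]),
    d.prime.delta_congr (ω := φ * ψ) (ω' := ψ) fun w hw => by simp [hφ' w hw]]

/-- Peterfalvi (4.8): reducible characters of equal degree are coherent, by `μ ω ↦ δ ω η ω`. -/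
theorem red_lift_spec {T : Set (L → ℂ)}
    (hT : ∀ φ ∈ T, ∃ ψ, TrivL ψ ∧ ¬ TrivR ψ ∧ φ = d.prime.red ψ)
    (hdeg : ∀ φ ∈ T, ∀ φ' ∈ T, φ 1 = φ' 1) :
    Cfsg.IsLinearIsometryOn (Cfsg.zspan T) (d.lift χ) ∧
      ∀ α ∈ Cfsg.zspanOn T ({1}ᶜ : Set L), d.lift χ α = Cfsg.dadeIsometry A L H α := by
  classical
  have hgen : ∀ α ∈ Cfsg.zspan T, Cfsg.IsGeneralizedCharacter L α ∧
      α = ∑ ω, Cfsg.classInner α (d.prime.mu ω) • d.prime.mu ω := by
    intro α hα
    induction hα using Submodule.span_induction with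
    | mem φ hφ =>
      obtain ⟨ψ, -, -, rfl⟩ := hT φ hφ
      refine ⟨by rw [d.prime.red_eq_sum]; exact gen_sum _ _ fun η _ => gen_of_irr (d.prime.mu_irr _),
        ?_⟩
      simp only [d.prime.classInner_red_mu, ite_smul, one_smul, zero_smul]
      rw [← sum_filter, d.prime.red_eq_sum]
      refine (sum_nbij' (fun ω => ω * ψ⁻¹) (fun φ => φ * ψ) ?_ ?_ ?_ ?_ ?_).symm
      · intro ω hω
        exact mem_filter.2 ⟨mem_univ _, fun w hw => by simp [(mem_filter.1 hω).2 w hw]⟩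
      · intro η hη
        exact mem_filter.2 ⟨mem_univ _, fun w hw => by simp [(mem_filter.1 hη).2 w hw]⟩
      · intro ω _; ext; simp
      · intro η _; ext; simp
      · intro ω _
        rw [show ω * ψ⁻¹ * ψ = ω from by ext; simp]
    | zero => exact ⟨gen_zero, by simp [CharBasic.classInner_zero_left]⟩
    | add α β _ _ h1 h2 =>
      refine ⟨gen_add h1.1 h2.1, ?_⟩
      simp only [CharBasic.classInner_add_left, add_smul, sum_add_distrib, ← h1.2, ← h2.2]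
    | smul n α _ h1 =>
      refine ⟨gen_zsmul h1.1 n, ?_⟩
      simp only [H43.classInner_zsmul_left, mul_smul, ← smul_sum, ← h1.2, Int.cast_smul_eq_zsmul]
  refine ⟨⟨fun α _ β _ => d.lift_add α β, fun α _ n => d.lift_zsmul n α, fun α hα β hβ => ?_,
    fun α hα => gen_sum _ _ fun ω _ => ?_⟩, fun α hα => ?_⟩
  · nth_rw 2 [(hgen α hα).2]
    simp only [lift, CharBasic.classInner_sum_left, CharBasic.classInner_sum_right,
      CharBasic.classInner_smul_left, CharBasic.classInner_smul_right, eta_orth hχ]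
    refine sum_congr rfl fun ω _ => ?_
    simp only [mul_ite, mul_one, mul_zero, sum_ite_eq, sum_ite_eq', mem_univ, if_true, map_mul]
    rw [← CharInduce.conj_classInner β]
    rcases d.prime.delta_eq ω with e | e <;> simp [e] <;> ring
  · obtain ⟨n, hn⟩ := gen_inner_int (hgen α hα).1 (gen_of_irr (d.prime.mu_irr ω))
    obtain ⟨m, hm⟩ : ∃ m : ℤ, d.prime.delta ω = m := by
      rcases d.prime.delta_eq ω with e | e
      · exact ⟨1, by simp [e]⟩
      · exact ⟨-1, by simp [e]⟩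
    rw [hn, hm, ← Int.cast_mul, Int.cast_smul_eq_zsmul]
    exact gen_zsmul (eta_signed hχ ω).gen _
  · rw [zspanOn_compl_one] at hα
    obtain ⟨hα, hα1⟩ := hα
    by_cases hT0 : T.Nonempty
    · obtain ⟨r₀, hr₀⟩ := hT0
      have key : ∀ β ∈ Cfsg.zspan T, ∃ k : ℤ, β 1 = k * r₀ 1 ∧
          d.lift χ β = Cfsg.dadeIsometry A L H (β - k • r₀) + k • d.lift χ r₀ := by
        intro β hβ
        induction hβ using Submodule.span_induction with
        | mem φ hφ =>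
          refine ⟨1, by rw [Int.cast_one, one_mul]; exact hdeg φ hφ r₀ hr₀, ?_⟩
          obtain ⟨ψ, h1, h2, rfl⟩ := hT φ hφ
          obtain ⟨ψ', h1', h2', rfl⟩ := hT r₀ hr₀
          have hd := hdeg _ hφ _ hr₀
          have hδ : d.prime.delta ψ = d.prime.delta ψ' := d.prime.delta_eq_of_degree
            (mul_left_cancel₀ (CharInduce.card_ne_zero_complex W₁)
              (by rw [← d.prime.red_one, ← d.prime.red_one, hd]))
          rw [one_smul, one_smul, d.dade_red_sub hχ s h1 h1' h2 h2' hd, d.lift_red, d.lift_red, ← hδ,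
            ← smul_add, sum_sub_distrib, sub_add_cancel]
        | zero => exact ⟨0, by simp, by simp [dade_zero, d.lift_zero]⟩
        | add a b _ _ ha hb =>
          obtain ⟨k, hk1, hk⟩ := ha
          obtain ⟨l, hl1, hl⟩ := hb
          refine ⟨k + l, by simp [hk1, hl1, add_mul], ?_⟩
          rw [d.lift_add, hk, hl, add_smul, show a + b - (k • r₀ + l • r₀) =
            (a - k • r₀) + (b - l • r₀) by abel, dade_add, add_smul]
          abel
        | smul n a _ ha =>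
          obtain ⟨k, hk1, hk⟩ := ha
          refine ⟨n * k, by simp [hk1, mul_assoc], ?_⟩
          rw [d.lift_zsmul, hk, mul_smul, ← smul_sub, dade_zsmul, smul_add, mul_smul]
      obtain ⟨k, hk1, hk⟩ := key α hα
      have hr1 : r₀ 1 ≠ 0 := by
        obtain ⟨ψ, -, -, rfl⟩ := hT r₀ hr₀
        rw [d.prime.red_one]
        exact mul_ne_zero (CharInduce.card_ne_zero_complex _)
          (CharBasic.IsIrr.one_ne_zero (d.prime.mu_irr ψ))
      rw [hα1, eq_comm, mul_eq_zero, Int.cast_eq_zero] at hk1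
      obtain rfl := hk1.resolve_right hr1
      simpa using hk
    · rw [Set.not_nonempty_iff_eq_empty] at hT0
      subst hT0
      have : α = 0 := by simpa [Cfsg.zspan] using hα
      rw [this, d.lift_zero, dade_zero]

theorem red_coherent {T : Set (L → ℂ)}
    (hT : ∀ φ ∈ T, ∃ ψ, TrivL ψ ∧ ¬ TrivR ψ ∧ φ = d.prime.red ψ)
    (hdeg : ∀ φ ∈ T, ∀ φ' ∈ T, φ 1 = φ' 1) (h2 : ∃ a ∈ T, ∃ b ∈ T, a ≠ b) :
    Cfsg.IsCoherent T ({1}ᶜ : Set L) (Cfsg.dadeIsometry A L H) := by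
  obtain ⟨a, ha, b, hb, hne⟩ := h2
  obtain ⟨h1, h1'⟩ := d.red_lift_spec hχ s hT hdeg
  refine ⟨⟨a - b, ?_, sub_ne_zero.2 hne⟩, d.lift χ, h1, h1'⟩
  rw [zspanOn_compl_one]
  exact ⟨zspan_sub (zspan_mem ha) (zspan_mem hb), by rw [Pi.sub_apply, hdeg a ha b hb, sub_self]⟩

omit s in
open scoped Classical in
theorem mem_redR {ψ : ↥(W₁ ⊔ W₂) →* ℂˣ} {r : G → ℂ} (hr : r ∈ d.redR χ ψ) :
    ∃ φ, TrivR φ ∧ (r = d.prime.delta ψ • eta χ (φ * ψ) ∨
      r = -(d.prime.delta ψ • eta χ (φ * ψ⁻¹))) := by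
  rcases mem_union.1 hr with h | h <;> obtain ⟨φ, hφ, rfl⟩ := mem_image.1 h
  · exact ⟨φ, (mem_filter.1 hφ).2, Or.inl rfl⟩
  · exact ⟨φ, (mem_filter.1 hφ).2, Or.inr rfl⟩

omit s in
theorem redR_orth_eta {ψ : ↥(W₁ ⊔ W₂) →* ℂˣ} {r : G → ℂ} (hr : r ∈ d.redR χ ψ)
    {ω : ↥(W₁ ⊔ W₂) →* ℂˣ} (hω : ∀ φ, TrivR φ → φ * ψ ≠ ω ∧ φ * ψ⁻¹ ≠ ω) :
    Cfsg.classInner r (eta χ ω) = 0 := by
  classical
  obtain ⟨φ, hφ, rfl | rfl⟩ := d.mem_redR hχ hr
  · rw [CharBasic.classInner_smul_left, eta_orth hχ, if_neg (hω φ hφ).1, mul_zero]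
  · rw [CharBasic.classInner_neg_left, CharBasic.classInner_smul_left, eta_orth hχ,
      if_neg (hω φ hφ).2, mul_zero, neg_zero]

omit s in
theorem redR_orthonormal {ψ : ↥(W₁ ⊔ W₂) →* ℂˣ} (hL : TrivL ψ) (hn : ¬ TrivR ψ) {a b : G → ℂ}
    (ha : a ∈ d.redR χ ψ) (hb : b ∈ d.redR χ ψ) [Decidable (a = b)] :
    Cfsg.classInner a b = if a = b then 1 else 0 := by
  classical
  have hδ : d.prime.delta ψ * conj (d.prime.delta ψ) = 1 := by
    rcases d.prime.delta_eq ψ with e | e <;> simp [e]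
  have hdis : ∀ φ φ', TrivR φ → TrivR φ' → φ * ψ ≠ φ' * ψ⁻¹ := fun φ φ' h h' e =>
    d.prime.inv_ne hn (factor_unique d.prime.pair h h' hL (Hyp.trivL_inv hL) e).2.symm
  have hzero : ∀ {φ φ'} (c c' : ℂ), φ ≠ φ' →
      Cfsg.classInner (c • eta χ φ) (c' • eta χ φ') = 0 := fun {φ φ'} c c' hne => by
    rw [CharBasic.classInner_smul_left, CharBasic.classInner_smul_right, eta_orth hχ, if_neg hne,
      mul_zero, mul_zero]
  have hone : ∀ φ, Cfsg.classInner (d.prime.delta ψ • eta χ φ) (d.prime.delta ψ • eta χ φ) = 1 :=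
    fun φ => by
      rw [CharBasic.classInner_smul_left, CharBasic.classInner_smul_right, eta_orth hχ, if_pos rfl,
        mul_one, hδ]
  obtain ⟨φ, hφ, rfl | rfl⟩ := d.mem_redR hχ ha <;> obtain ⟨φ', hφ', rfl | rfl⟩ := d.mem_redR hχ hb
  · by_cases e : φ = φ'
    · subst e; rw [if_pos rfl, hone]
    · rw [hzero _ _ fun e' => e (mul_right_cancel e'), if_neg]
      intro e'
      have := hone (φ * ψ)
      nth_rw 2 [e'] at this
      rw [hzero _ _ fun e'' => e (mul_right_cancel e'')] at this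
      exact zero_ne_one this
  · have h0 : Cfsg.classInner (d.prime.delta ψ • eta χ (φ * ψ))
        (-(d.prime.delta ψ • eta χ (φ' * ψ⁻¹))) = 0 := by
      rw [CharBasic.classInner_neg_right, hzero _ _ (hdis φ φ' hφ hφ'), neg_zero]
    rw [h0, if_neg]
    intro e
    rw [← e, hone] at h0
    exact one_ne_zero h0
  · have h0 : Cfsg.classInner (-(d.prime.delta ψ • eta χ (φ * ψ⁻¹)))
        (d.prime.delta ψ • eta χ (φ' * ψ)) = 0 := by
      rw [CharBasic.classInner_neg_left, hzero _ _ (hdis φ' φ hφ' hφ).symm, neg_zero]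
    rw [h0, if_neg]
    intro e
    rw [e, hone] at h0
    exact one_ne_zero h0
  · rw [CharBasic.classInner_neg_left, CharBasic.classInner_neg_right, neg_neg]
    by_cases e : φ = φ'
    · subst e; rw [if_pos rfl, hone]
    · rw [hzero _ _ fun e' => e (mul_right_cancel e'), if_neg]
      intro e'
      have := hone (φ * ψ⁻¹)
      nth_rw 2 [neg_inj.1 e'] at this
      rw [hzero _ _ fun e'' => e (mul_right_cancel e'')] at this
      exact zero_ne_one this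

open scoped Classical in
/-- The sum of the explicit set is the image of `red ψ` minus its conjugate. -/
theorem redR_sum {ψ : ↥(W₁ ⊔ W₂) →* ℂˣ} (hL : TrivL ψ) (hn : ¬ TrivR ψ) :
    Cfsg.dadeIsometry A L H (d.prime.red ψ - Cfsg.conjFun (d.prime.red ψ)) =
      ∑ r ∈ d.redR χ ψ, r := by
  have hδ : d.prime.delta ψ * conj (d.prime.delta ψ) = 1 := by
    rcases d.prime.delta_eq ψ with e | e <;> simp [e]
  have hinj : ∀ a b, d.prime.delta ψ • eta χ a = d.prime.delta ψ • eta χ b → a = b := fun a b e =>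
    eta_injective hχ (smul_right_injective _ (d.prime.delta_ne_zero ψ) e)
  have hdeg : d.prime.red ψ 1 = d.prime.red ψ⁻¹ 1 := by
    obtain ⟨n, hn⟩ := CharBasic.IsChar.exists_degree (CharBasic.IsIrr.isCharacter (d.prime.mu_irr ψ))
    rw [← d.prime.red_conj]
    show _ = conj (d.prime.red ψ 1)
    rw [d.prime.red_one, hn, map_mul, map_natCast, map_natCast]
  rw [d.prime.red_conj, d.dade_red_sub hχ s hL (Hyp.trivL_inv hL) hn (Hyp.not_trivR_inv hn) hdeg,
    redR, sum_union, sum_image, sum_image]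
  · rw [smul_sum, ← sum_add_distrib]
    exact sum_congr rfl fun φ _ => by rw [smul_sub, sub_eq_add_neg]
  · intro a _ b _ e
    exact mul_right_cancel (hinj _ _ (neg_inj.1 e))
  · intro a _ b _ e
    exact mul_right_cancel (hinj _ _ e)
  · rw [disjoint_left]
    intro r hr hr'
    obtain ⟨a, ha, rfl⟩ := mem_image.1 hr
    obtain ⟨b, hb, e⟩ := mem_image.1 hr'
    have hne : a * ψ ≠ b * ψ⁻¹ := fun e' => d.prime.inv_ne hn (factor_unique d.prime.pair
      (mem_filter.1 ha).2 (mem_filter.1 hb).2 hL (Hyp.trivL_inv hL) e').2.symm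
    have h1 := congrArg (fun f => Cfsg.classInner f (eta χ (a * ψ))) e
    simp only [CharBasic.classInner_neg_left, CharBasic.classInner_smul_left, eta_orth hχ,
      if_neg (Ne.symm hne), if_true, mul_zero, neg_zero, mul_one] at h1
    exact d.prime.delta_ne_zero ψ h1.symm

end DadeHyp

end Cfsg.Agent.OddOrder.PF4
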